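import Mathlib
import Cfsg.Prelude.Def_OddOrderLocal
import Cfsg.Prelude.Def_LieExceptional
import Cfsg.Agent.Lib.CNGroup.Basic
import Cfsg.Agent.Lib.Brauer.Monomial

/-!
# Groups in which every element centraliser is a TI subgroup

* `isNilpotent_of_center_ne_bot` : a nontrivial centre forces nilpotency.
* `isCNGroup` : such a group is a CN-group.
* `exists_kernel` : with a nontrivial abelian normal subgroup and not nilpotent, there is a normal
  nilpotent proper subgroup containing the centralisers of its non-identity elements.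
-/

set_option autoImplicit false

namespace Cfsg.Agent.Lib.TICen.Basic

open Subgroup

universe u

variable {G : Type u} [Group G]

/-- Every element centraliser is a TI subgroup. -/
def TICen (G : Type u) [Group G] : Prop :=
  ∀ x : G, Cfsg.IsTISubset (Subgroup.centralizer ({x} : Set G) : Set G)

theorem self_mem (x : G) : x ∈ centralizer ({x} : Set G) :=
  mem_centralizer_singleton_iff.2 rfl

/-- A non-identity element with a conjugate in the same centraliser. -/
theorem mem_normalizer (h : TICen G) {x a g : G} (ha : a ∈ centralizer ({x} : Set G))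
    (hga : g * a * g⁻¹ ∈ centralizer ({x} : Set G)) (ha1 : a ≠ 1) :
    g ∈ normalizer (centralizer ({x} : Set G) : Set G) :=
  by_contra fun hg => ha1 (h x g hg a ha hga)

theorem ti_subgroup (h : TICen G) (H : Subgroup G) : TICen H := by
  intro x g hg a ha hga
  by_contra ha1
  have key : ∀ y : H, y ∈ centralizer ({x} : Set H) ↔ (y : G) ∈ centralizer ({(x : G)} : Set G) :=
    fun y => by rw [mem_centralizer_singleton_iff, mem_centralizer_singleton_iff, Subtype.ext_iff,
      coe_mul, coe_mul]
  have hn := mem_normalizer h ((key a).1 ha) (by simpa using (key _).1 hga)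
    fun e => ha1 (Subtype.ext e)
  refine hg (mem_normalizer_iff.2 fun y => ?_)
  rw [key, key]
  simpa using mem_normalizer_iff.1 hn (y : G)

/-- An element centraliser containing a non-identity central element or normal subgroup is normal. -/
theorem normal_of_normal_le (h : TICen G) {N : Subgroup G} (hN : N.Normal) (hN1 : N ≠ ⊥) {x : G}
    (hle : N ≤ centralizer ({x} : Set G)) : (centralizer ({x} : Set G)).Normal := by
  obtain ⟨a, ha, ha1⟩ := (bot_or_exists_ne_one N).resolve_left hN1
  exact normalizer_eq_top_iff.1 (eq_top_iff.2 fun g _ =>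
    mem_normalizer h (hle ha) (hle (hN.conj_mem a ha g)) ha1)

theorem normal_centralizer_of_center (h : TICen G) (hZ : center G ≠ ⊥) (x : G) :
    (centralizer ({x} : Set G)).Normal :=
  normal_of_normal_le h inferInstance hZ (center_le_centralizer _)

/-- If all element centralisers are normal, the group is nilpotent. -/
theorem isNilpotent_of_normal [Finite G] (hn : ∀ x : G, (centralizer ({x} : Set G)).Normal) :
    Group.IsNilpotent G := by
  refine CNGroup.Basic.isNilpotent_of_commute fun p q m n a b hp hq hpq ha hb => ?_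
  have hcomm : ∀ x g : G, Commute x (g * x * g⁻¹) := fun x g =>
    (mem_centralizer_singleton_iff.1 ((hn x).conj_mem x (self_mem x) g)).symm
  set c := a * b * a⁻¹ * b⁻¹ with hc
  have h1 : c ^ (p ^ m) = 1 := by
    rw [show c = a * (b * a⁻¹ * b⁻¹) by rw [hc]; group,
      (show Commute a (b * a⁻¹ * b⁻¹) by
        have := (hcomm a b).inv_right
        rwa [mul_inv_rev, mul_inv_rev, inv_inv, ← mul_assoc] at this).mul_pow, conj_pow, inv_pow,
      ← ha, pow_orderOf_eq_one]
    group
  have h2 : c ^ (q ^ n) = 1 := by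
    rw [show c = (a * b * a⁻¹) * b⁻¹ by rw [hc],
      (hcomm b a).symm.inv_right.mul_pow, conj_pow, inv_pow, ← hb, pow_orderOf_eq_one]
    group
  have hcop : Nat.Coprime (p ^ m) (q ^ n) := Nat.Coprime.pow _ _ ((Nat.coprime_primes hp hq).2 hpq)
  have hc1 : c = 1 := by
    simpa [hcop.gcd_eq_one] using pow_gcd_eq_one.2 ⟨h1, h2⟩
  rw [hc, mul_inv_eq_one, mul_inv_eq_iff_eq_mul] at hc1
  exact hc1

theorem isNilpotent_of_center_ne_bot [Finite G] (h : TICen G) (hZ : center G ≠ ⊥) :
    Group.IsNilpotent G :=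
  isNilpotent_of_normal (normal_centralizer_of_center h hZ)

theorem center_eq_bot [Finite G] (h : TICen G) (hnn : ¬ Group.IsNilpotent G) : center G = ⊥ :=
  by_contra fun hZ => hnn (isNilpotent_of_center_ne_bot h hZ)

theorem isCNGroup [Finite G] (h : TICen G) : Cfsg.IsCNGroup G := by
  intro x hx
  refine isNilpotent_of_center_ne_bot (ti_subgroup h _) fun hZ => hx ?_
  have hm : (⟨x, self_mem x⟩ : centralizer ({x} : Set G)) ∈ center (centralizer ({x} : Set G)) :=
    mem_center_iff.2 fun y => Subtype.ext (mem_centralizer_singleton_iff.1 y.2)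
  rw [hZ, mem_bot, Subtype.ext_iff] at hm
  exact hm

/-- A normal abelian subgroup makes a non-nilpotent group a Frobenius group. -/
theorem exists_kernel [Finite G] (h : TICen G) (hnn : ¬ Group.IsNilpotent G) {A : Subgroup G}
    (hA : A.Normal) (hA1 : A ≠ ⊥) (hAc : ∀ a ∈ A, ∀ b ∈ A, a * b = b * a) :
    ∃ F : Subgroup G, F.Normal ∧ F ≠ ⊥ ∧ F ≠ ⊤ ∧ Group.IsNilpotent F ∧
      ∀ x ∈ F, x ≠ 1 → centralizer ({x} : Set G) ≤ F := by
  have hAnil : Group.IsNilpotent A :=
    have : IsMulCommutative A := ⟨⟨fun a b => Subtype.ext (hAc a a.2 b b.2)⟩⟩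
    open scoped IsMulCommutative in inferInstance
  obtain ⟨F, ⟨hFn, hFnil, hAF⟩, hmax⟩ :=
    (Set.toFinite {F : Subgroup G | F.Normal ∧ Group.IsNilpotent F ∧ A ≤ F}).exists_maximal
      ⟨A, hA, hAnil, le_rfl⟩
  have hF1 : F ≠ ⊥ := fun e => hA1 (le_bot_iff.1 (e ▸ hAF))
  refine ⟨F, hFn, hF1, fun e => hnn ?_, hFnil, fun x hx hx1 => ?_⟩
  · rw [e] at hFnil
    exact Group.nilpotent_of_mulEquiv Subgroup.topEquiv
  set Z := (center F).map F.subtype with hZdef
  have hZn : Z.Normal := inferInstance
  have hZ1 : Z ≠ ⊥ := by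
    rw [hZdef, Ne, (center F).map_eq_bot_iff_of_injective F.subtype_injective]
    intro e
    have : Nontrivial F := (nontrivial_iff_ne_bot F).2 hF1
    exact (not_subsingleton F) (subsingleton_of_forall_eq 1 fun y => by
      have := Brauer.Monomial.eq_bot_of_inf_center (N := (⊤ : Subgroup F)) (by rw [top_inf_eq, e])
      exact mem_bot.1 (this ▸ mem_top y))
  have hZmem : ∀ z ∈ Z, ∀ y ∈ F, y * z = z * y := by
    rintro _ ⟨z, hz, rfl⟩ y hy
    exact congrArg Subtype.val (mem_center_iff.1 hz ⟨y, hy⟩)
  have hZle : Z ≤ centralizer ({x} : Set G) := fun z hz =>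
    mem_centralizer_singleton_iff.2 (hZmem z hz x hx).symm
  have hCn := normal_of_normal_le h hZn hZ1 hZle
  have hCnil := isCNGroup h x hx1
  have hne : (Z.subgroupOf (centralizer ({x} : Set G))) ⊓ center (centralizer ({x} : Set G)) ≠ ⊥ := by
    intro e
    have h0 := Brauer.Monomial.eq_bot_of_inf_center (G := centralizer ({x} : Set G)) e
    rw [subgroupOf_eq_bot, disjoint_iff, inf_eq_left.2 hZle] at h0
    exact hZ1 h0
  obtain ⟨w, hw, hw1⟩ := (bot_or_exists_ne_one _).resolve_left hne
  obtain ⟨hwZ, hwc⟩ := mem_inf.1 hw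
  have hw1' : (w : G) ≠ 1 := fun e => hw1 (Subtype.ext e)
  have hFw : F ≤ centralizer ({(w : G)} : Set G) := fun y hy =>
    mem_centralizer_singleton_iff.2 (hZmem _ hwZ y hy)
  have hwn := normal_of_normal_le h hFn hF1 hFw
  intro y hy
  refine hmax ⟨hwn, isCNGroup h _ hw1', hAF.trans hFw⟩ hFw (mem_centralizer_singleton_iff.2 ?_)
  exact congrArg Subtype.val (mem_center_iff.1 hwc ⟨y, hy⟩)

end Cfsg.Agent.Lib.TICen.Basic
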