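import Cfsg.Agent.Lib.TICen.Basic
import Cfsg.Agent.Lib.Isometry.Layers
import Cfsg.Agent.Lib.Frobenius.Complement
import Cfsg.Agent.Lib.PGroups.UniqueInvolution

/-!
# Frobenius complements in groups with TI centralisers

* `exists_complement` : a kernel as in `Basic.exists_kernel` has a Frobenius complement.
* `complement_cases` : such a complement is cyclic or odd cyclic times quaternion of order eight.
-/

set_option autoImplicit false
set_option linter.unusedSectionVars false

namespace Cfsg.Agent.Lib.TICen.Complement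

open Subgroup Cfsg.Agent.Lib.TICen.Basic

universe u

variable {G : Type u} [Group G] [Finite G] {F : Subgroup G}

/-- A proper normal subgroup containing the centralisers of its elements has a Frobenius complement. -/
theorem exists_complement [F.Normal] (hF1 : F ≠ ⊥) (hFtop : F ≠ ⊤)
    (hC : ∀ x ∈ F, x ≠ 1 → centralizer ({x} : Set G) ≤ F) :
    ∃ E : Subgroup G, Cfsg.IsFrobeniusComplement E ∧ IsComplement' F E := by
  let _ := Fintype.ofFinite G
  obtain ⟨E, hE⟩ := exists_right_complement'_of_coprime (N := F)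
    (Isometry.Layers.coprime_index (K := F) hC).symm
  refine ⟨E, ⟨?_, ?_, fun g hg => ?_⟩, hE⟩
  · rintro rfl
    exact hFtop (isComplement'_bot_right.1 hE)
  · rintro rfl
    exact hF1 (isComplement'_top_right.1 hE)
  rw [eq_bot_iff]
  intro e he
  obtain ⟨heE, he2⟩ := mem_inf.1 he
  rw [Cfsg.Agent.Lib.Frobenius.mem_conj_smul] at he2
  obtain ⟨⟨⟨f, hf⟩, ⟨e', he'⟩⟩, hfe⟩ := hE.2 g
  simp only at hfe
  subst hfe
  rw [SetLike.mem_coe] at hf he'
  have hd : f⁻¹ * e * f ∈ E := by
    have := mul_mem (mul_mem he' he2) (inv_mem he')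
    convert this using 1
    group
  have h1 : e⁻¹ * (f⁻¹ * e * f) ∈ F ⊓ E := by
    refine mem_inf.2 ⟨?_, mul_mem (inv_mem heE) hd⟩
    have := mul_mem ((inferInstance : F.Normal).conj_mem f⁻¹ (inv_mem hf) e⁻¹) hf
    convert this using 1
    group
  rw [hE.isCompl.inf_eq_bot, mem_bot, inv_mul_eq_one] at h1
  rw [mem_bot]
  by_contra he1
  have hcomm : e * f = f * e := by
    conv_rhs => rw [h1]
    group
  by_cases hf1 : f = 1
  · subst hf1
    exact hg (by rwa [one_mul])
  · have heF : e ∈ F := hC f hf hf1 (mem_centralizer_singleton_iff.2 hcomm)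
    exact he1 (mem_bot.1 (hE.isCompl.inf_eq_bot ▸ ⟨heF, heE⟩))

/-- In a quaternion group of order at least sixteen some element centraliser is not normal. -/
theorem not_normal_quaternion {m : ℕ} (hm : 3 ≤ m)
    (h : ∀ x : QuaternionGroup m, (centralizer ({x} : Set (QuaternionGroup m))).Normal) : False := by
  have hc := (h (QuaternionGroup.xa 0)).conj_mem _ (self_mem _) (QuaternionGroup.a 1)
  rw [mem_centralizer_singleton_iff,
    show (QuaternionGroup.a 1)⁻¹ = QuaternionGroup.a (-1 : ZMod (2 * m)) from rfl,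
    QuaternionGroup.a_mul_xa, QuaternionGroup.xa_mul_a, QuaternionGroup.xa_mul_xa,
    QuaternionGroup.xa_mul_xa, QuaternionGroup.a.injEq] at hc
  have h4 : ((4 : ℕ) : ZMod (2 * m)) = 0 := by push_cast; linear_combination hc
  rw [ZMod.natCast_eq_zero_iff] at h4
  have := Nat.le_of_dvd (by norm_num) h4
  omega

/-- Such a Frobenius complement is cyclic or odd cyclic times quaternion of order eight. -/
theorem complement_cases (h : TICen G) [F.Normal] {E : Subgroup G}
    (hE : Cfsg.IsFrobeniusComplement E) (hc : IsComplement' F E) :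
    IsCyclic E ∨ ∃ m : ℕ, Odd m ∧ Nonempty (E ≃* Multiplicative (ZMod m) × QuaternionGroup 2) := by
  have hsyl : ∀ (p : ℕ) (hp : Fact p.Prime) (P : Sylow p E), IsCyclic P ∨
      (p = 2 ∧ ∃ n : ℕ, 1 ≤ n ∧ Nonempty ((P : Subgroup E) ≃* QuaternionGroup (2 ^ n))) := by
    intro p hp P
    refine PGroups.isCyclic_or_quaternion P.2 fun x y hx hy => ?_
    rw [Frobenius.zpowers_eq_of_isPGroup hE hc P.2 hx hy]
    exact mem_zpowers y
  have hZ : center E ≠ ⊥ := by
    by_cases h2 : 2 ∣ Nat.card E
    · exact Frobenius.center_ne_bot_of_even hE hc h2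
    · have : IsZGroup E := ⟨fun p hp P => by
        have := Fact.mk hp
        rcases hsyl p this P with hcy | ⟨rfl, n, hn, ⟨e⟩⟩
        · exact hcy
        · refine absurd (dvd_trans ?_ (card_subgroup_dvd_card (P : Subgroup E))) h2
          rw [Nat.card_congr e.toEquiv, Nat.card_eq_fintype_card, QuaternionGroup.card]
          exact ⟨2 * 2 ^ n, by ring⟩⟩
      exact Frobenius.center_ne_bot_of_isZGroup hE hc
  have hnil := isNilpotent_of_center_ne_bot (ti_subgroup h E) hZ
  have hn' : ∀ (p : ℕ) [Fact p.Prime] (P : Sylow p E), (P : Subgroup E).Normal :=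
    fun p hp P => ((Group.isNilpotent_of_finite_tfae (G := E)).out 0 3 rfl rfl).mp hnil p hp P
  by_cases hzg : ∀ (p : ℕ) (hp : Fact p.Prime) (P : Sylow p E), IsCyclic P
  · have : IsZGroup E := ⟨fun p hp P => hzg p ⟨hp⟩ P⟩
    exact Or.inl inferInstance
  push Not at hzg
  obtain ⟨p, hp, P, hP⟩ := hzg
  obtain ⟨rfl, n, hn1, ⟨e⟩⟩ := (hsyl p hp P).resolve_left hP
  have hPnt : Nontrivial (P : Subgroup E) := e.toEquiv.nontrivial
  have hPC : center (P : Subgroup E) ≠ ⊥ := by
    have := P.2.center_nontrivial
    exact (nontrivial_iff_ne_bot _).1 this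
  have hn : n = 1 := by
    by_contra hne
    have h2 : 2 ≤ n := by omega
    refine not_normal_quaternion (m := 2 ^ n)
      ((show 3 ≤ 2 ^ 2 by norm_num).trans (Nat.pow_le_pow_right (by norm_num) h2)) fun x => ?_
    have := normal_centralizer_of_center (ti_subgroup (ti_subgroup h E) (P : Subgroup E)) hPC (e.symm x)
    refine ⟨fun y hy g => ?_⟩
    have := this.conj_mem (e.symm y) (mem_centralizer_singleton_iff.2 (by
      rw [← map_mul, ← map_mul, mem_centralizer_singleton_iff.1 hy])) (e.symm g)
    rw [← map_inv, ← map_mul, ← map_mul, mem_centralizer_singleton_iff, ← map_mul, ← map_mul] at this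
    exact mem_centralizer_singleton_iff.2 (e.symm.injective this)
  subst hn
  have := hn' 2 P
  obtain ⟨B, hB⟩ := exists_left_complement'_of_coprime (N := (P : Subgroup E)) P.card_coprime_index
  have hBodd : Odd (Nat.card B) := by
    rw [← hB.index_eq_card, Nat.odd_iff, ← Nat.two_dvd_ne_zero]
    exact P.not_dvd_index
  have hBc : IsCyclic B := by
    have : IsZGroup B := ⟨fun q hq Q => by
      have := Fact.mk hq
      obtain ⟨R, hR⟩ := (Q.2.map B.subtype).exists_le_sylow
      have hinj : Function.Injective ((inclusion hR).comp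
          ((Q : Subgroup B).equivMapOfInjective B.subtype B.subtype_injective).toMonoidHom) :=
        (inclusion_injective hR).comp (MulEquiv.injective _)
      rcases hsyl q this R with hcy | ⟨rfl, -, -, -⟩
      · exact isCyclic_of_injective _ hinj
      · have : Subsingleton (Q : Subgroup B) := by
          obtain ⟨k, hk⟩ := IsPGroup.iff_card.1 Q.2
          rcases k.eq_zero_or_pos with rfl | hk0
          · exact (Nat.card_eq_one_iff_unique.1 (by simpa using hk)).1
          · exfalso
            have h2 : 2 ∣ Nat.card B :=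
              (dvd_pow_self 2 hk0.ne').trans (hk ▸ card_subgroup_dvd_card _)
            rw [Nat.odd_iff] at hBodd
            omega
        exact isCyclic_of_subsingleton⟩
    have : Group.IsNilpotent B := inferInstance
    infer_instance
  have hcomm : ∀ (b : B) (x : (P : Subgroup E)), Commute (b : E) (x : E) := by
    intro b x
    refine CNGroup.Basic.commute_of_coprime_nilpotent E _ _ ?_
    obtain ⟨k, hk⟩ := IsPGroup.iff_orderOf.1 P.2 x
    rw [← Subgroup.orderOf_coe] at hk
    rw [hk]
    refine Nat.Coprime.pow_right k (Nat.coprime_two_right.2 ?_)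
    exact hBodd.of_dvd_nat ((Subgroup.orderOf_coe b).symm ▸ orderOf_dvd_natCard b)
  let φ : B × (P : Subgroup E) →* E :=
    MonoidHom.noncommCoprod B.subtype (P : Subgroup E).subtype hcomm
  have hφ : Function.Bijective φ := hB
  refine Or.inr ⟨Nat.card B, hBodd, ⟨(MulEquiv.ofBijective φ hφ).symm.trans
    ((zmodCyclicMulEquiv hBc).symm.prodCongr (e.trans ?_))⟩⟩
  exact MulEquiv.refl _

end Cfsg.Agent.Lib.TICen.Complement
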