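import Cfsg.Agent.Lib.TICen.Basic
import Cfsg.Agent.Lib.Induced.CNTheorem
import Cfsg.Agent.Lib.Involutions.StronglyEmbedded
import Cfsg.Agent.Lib.Fusion.EACentralizers
import Cfsg.Agent.Lib.ZStar.UniqueCase

/-!
# Non-solvable groups with TI centralisers

The Sylow `2`-subgroups are TI, their normalisers are strongly embedded, all their involutions are
central in them, and the centraliser `K` of one of them is the centraliser of all of them.
-/

set_option autoImplicit false
set_option linter.unusedSectionVars false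

namespace Cfsg.Agent.Lib.TICen.Even

open Subgroup Cfsg.Agent.Lib.TICen.Basic
open scoped Pointwise
open Cfsg.Agent.Lib.Involutions.Basic Cfsg.Agent.Lib.Involutions.StronglyEmbedded

universe u

variable {G : Type u} [Group G] [Finite G]

theorem solvable_of_odd (h : TICen G) (hodd : Odd (Nat.card G)) : Group.IsSolvable G :=
  Induced.CNTheorem.isSolvable_of_odd_cn hodd (isCNGroup h)

theorem solvable_subgroup_of_odd (h : TICen G) (H : Subgroup G) (hodd : Odd (Nat.card H)) :
    Group.IsSolvable H :=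
  solvable_of_odd (ti_subgroup h H) hodd

theorem solvable_extension {G' G'' : Type*} [Group G'] [Group G''] (N : Subgroup G') [N.Normal]
    (f : G'' →* G' ⧸ N) (hf : Function.Surjective f) (hN : Group.IsSolvable N)
    (h : Group.IsSolvable G'') : Group.IsSolvable G' := by
  have := hN
  have := h
  have := Group.isSolvable_of_surjective hf
  exact Group.isSolvable_of_ker_le_range N.subtype (QuotientGroup.mk' N) (by
    rw [QuotientGroup.ker_mk', range_subtype])

variable (h : TICen G) (hns : ¬ Group.IsSolvable G)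
include h hns

theorem even_card : 2 ∣ Nat.card G := by
  by_contra h2
  exact hns (solvable_of_odd h (Nat.odd_iff.2 (by omega)))

theorem exists_central (S : Sylow 2 G) :
    ∃ t : G, orderOf t = 2 ∧ t ∈ S ∧ ∀ g ∈ S, g * t = t * g := by
  have hS : Nontrivial (S : Subgroup G) := by
    refine Finite.one_lt_card_iff_nontrivial.1 ?_
    obtain ⟨k, hk⟩ := IsPGroup.iff_card.1 S.2
    refine hk ▸ Nat.one_lt_two_pow fun h0 => S.not_dvd_index ?_
    rw [h0, pow_zero] at hk
    have := even_card h hns
    rwa [← (S : Subgroup G).card_mul_index, hk, one_mul] at this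
  have := S.2.center_nontrivial
  obtain ⟨k, hk⟩ := IsPGroup.iff_card.1 (S.2.to_subgroup (center (S : Subgroup G)))
  obtain ⟨t, ht⟩ := exists_prime_orderOf_dvd_card' (G := center (S : Subgroup G)) 2 (hk ▸ dvd_pow_self 2
    fun h0 => by
      have := Finite.one_lt_card (α := center (S : Subgroup G))
      rw [hk, h0, pow_zero] at this; omega)
  exact ⟨((t : (S : Subgroup G)) : G), by rw [orderOf_coe, orderOf_coe, ht],
    (t : (S : Subgroup G)).2, fun g hg =>
      congrArg Subtype.val (mem_center_iff.1 t.2 ⟨g, hg⟩)⟩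

/-- The `2`-elements commuting with an involution of a Sylow subgroup lie in it. -/
theorem mem_of_commute (S : Sylow 2 G) {u y : G} (hu : orderOf u = 2) (huS : u ∈ S)
    (hy : u * y = y * u) {k : ℕ} (hyo : orderOf y = 2 ^ k) : y ∈ S := by
  set C := centralizer ({u} : Set G)
  have hnil : Group.IsNilpotent C := isCNGroup h u (invol_ne_one hu)
  obtain ⟨T⟩ := (inferInstance : Nonempty (Sylow 2 C))
  have hTn : (T : Subgroup C).Normal :=
    ((Group.isNilpotent_of_finite_tfae (G := C)).out 0 3 rfl rfl).mp hnil 2 ⟨Nat.prime_two⟩ T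
  set T' := (T : Subgroup C).map C.subtype with hT'
  have hmem : ∀ z : G, z ∈ T' ↔ z ∈ C ∧ ∃ j, orderOf z = 2 ^ j := by
    refine fun z => ⟨?_, ?_⟩
    · rintro ⟨w, hw, rfl⟩
      obtain ⟨j, hj⟩ := IsPGroup.iff_orderOf.1 T.2 ⟨w, hw⟩
      exact ⟨w.2, j, by rw [coe_subtype, orderOf_coe]; rw [orderOf_mk] at hj; exact hj⟩
    · rintro ⟨hzC, j, hj⟩
      refine ⟨⟨z, hzC⟩, ?_, rfl⟩
      have hp : IsPGroup 2 (zpowers (⟨z, hzC⟩ : C)) :=
        IsPGroup.of_card (n := j) (by rw [Nat.card_zpowers, orderOf_mk, hj])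
      obtain ⟨T₂, hT₂⟩ := hp.exists_le_sylow
      have : Subsingleton (Sylow 2 C) := (Sylow.unique_of_normal T hTn).instSubsingleton
      rw [Subsingleton.elim T T₂]
      exact hT₂ (mem_zpowers _)
  obtain ⟨t, ht, htS, htc⟩ := exists_central h hns S
  have htC : t ∈ C := mem_centralizer_singleton_iff.2 (htc u huS).symm
  have hle : (S : Subgroup G) ≤ normalizer (T' : Set G) := by
    intro g hg
    have hn := mem_normalizer h htC (by rw [htc g hg, mul_inv_cancel_right]; exact htC)
      (invol_ne_one ht)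
    refine mem_normalizer_iff.2 fun z => ?_
    rw [hmem, hmem, orderOf_conj_eq]
    exact and_congr_left' (mem_normalizer_iff.1 hn z)
  have hsup : IsPGroup 2 ↥((S : Subgroup G) ⊔ T') :=
    IsPGroup.to_sup_of_normal_right' S.2 (T.2.map _) hle
  have := S.3 hsup le_sup_left
  show y ∈ (S : Subgroup G)
  rw [← this]
  exact mem_sup_right ((hmem y).2 ⟨mem_centralizer_singleton_iff.2 hy.symm, k, hyo⟩)

/-- The Sylow `2`-subgroups are TI. -/
theorem sylow_eq (S S' : Sylow 2 G) {u : G} (hu : orderOf u = 2) (huS : u ∈ S) (huS' : u ∈ S') :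
    S = S' := by
  obtain ⟨t', ht', ht'S', htc'⟩ := exists_central h hns S'
  have ht'S : t' ∈ S :=
    mem_of_commute h hns S hu huS (htc' u huS') (k := 1) (by rw [ht', pow_one])
  refine Sylow.ext ((S'.3 S.2 fun y hy => ?_))
  obtain ⟨k, hk⟩ := IsPGroup.iff_orderOf.1 S'.2 ⟨y, hy⟩
  exact mem_of_commute h hns S ht' ht'S (htc' y hy).symm
    (k := k) (by rw [orderOf_mk] at hk; exact hk)

theorem not_normal (S : Sylow 2 G) : ¬ (S : Subgroup G).Normal := fun hn => by
  obtain ⟨B, hB⟩ := exists_left_complement'_of_coprime (N := (S : Subgroup G)) S.card_coprime_index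
  have hodd : Odd (Nat.card B) := by
    rw [← hB.index_eq_card, Nat.odd_iff, ← Nat.two_dvd_ne_zero]
    exact S.not_dvd_index
  have : Group.IsNilpotent (S : Subgroup G) := S.2.isNilpotent
  refine hns (solvable_extension (S : Subgroup G)
    ((QuotientGroup.mk' (S : Subgroup G)).comp B.subtype) (fun q => ?_) inferInstance
    (solvable_subgroup_of_odd h B hodd))
  obtain ⟨g, rfl⟩ := QuotientGroup.mk'_surjective _ q
  obtain ⟨⟨⟨b, hb⟩, ⟨s, hs⟩⟩, hbs⟩ := hB.2 g
  simp only at hbs
  refine ⟨⟨b, hb⟩, ?_⟩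
  rw [MonoidHom.comp_apply, ← hbs, map_mul]
  have : (QuotientGroup.mk' (S : Subgroup G)) s = 1 := (QuotientGroup.eq_one_iff s).2 hs
  rw [this, mul_one]
  rfl

theorem strongly_embedded (S : Sylow 2 G) :
    Cfsg.IsStronglyEmbedded (normalizer ((S : Subgroup G) : Set G)) := by
  refine isStronglyEmbedded_normalizer_of_ti S (not_normal h hns S) fun g hg => ?_
  by_contra hne
  have hp : IsPGroup 2 ↥(MulAut.conj g • (S : Subgroup G) ⊓ (S : Subgroup G)) := S.2.to_le inf_le_right
  have hnt : Nontrivial ↥(MulAut.conj g • (S : Subgroup G) ⊓ (S : Subgroup G)) := (nontrivial_iff_ne_bot _).2 hne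
  obtain ⟨k, hk⟩ := IsPGroup.iff_card.1 hp
  obtain ⟨⟨u, hu⟩, huo⟩ := exists_prime_orderOf_dvd_card' 2 (hk ▸ dvd_pow_self 2 fun h0 => by
    have := Finite.one_lt_card (α := ↥(MulAut.conj g • (S : Subgroup G) ⊓ (S : Subgroup G)))
    rw [hk, h0, pow_zero] at this; omega)
  rw [orderOf_mk] at huo
  obtain ⟨h1, h2⟩ := mem_inf.1 hu
  apply hg
  exact congrArg (fun P : Sylow 2 G => (P : Subgroup G)) (sylow_eq h hns (MulAut.conj g • S) S huo h1 h2)

/-- An involution of the normaliser lies in the Sylow subgroup. -/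
theorem invol_mem (S : Sylow 2 G) {v : G} (hv : orderOf v = 2)
    (hvM : v ∈ normalizer ((S : Subgroup G) : Set G)) : v ∈ S := by
  have hp : IsPGroup 2 (zpowers v) :=
    IsPGroup.of_card (n := 1) (by rw [Nat.card_zpowers, hv, pow_one])
  have hsup := IsPGroup.to_sup_of_normal_left' S.2 hp (zpowers_le.2 hvM)
  have := S.3 hsup le_sup_left
  show v ∈ (S : Subgroup G)
  rw [← this]
  exact mem_sup_right (mem_zpowers v)

theorem exists_two (S : Sylow 2 G) :
    ∃ s t : G, s ≠ t ∧ orderOf s = 2 ∧ orderOf t = 2 ∧ s ∈ S ∧ t ∈ S := by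
  obtain ⟨t, ht, htS, -⟩ := exists_central h hns S
  by_contra hno
  push Not at hno
  have hiso : ∀ g : G, g * t * g⁻¹ ∈ S → g * t * g⁻¹ = t := fun g hg =>
    by_contra fun hne => hno _ _ hne ((orderOf_conj_eq g t).trans ht) ht hg htS
  obtain ⟨N, hN, hodd, hmem⟩ := ZStar.UniqueCase.zstar S t ht htS hiso
  refine hns (solvable_extension N ((QuotientGroup.mk' N).comp (centralizer ({t} : Set G)).subtype)
    (fun q => ?_) (solvable_subgroup_of_odd h N hodd) ?_)
  · obtain ⟨g, rfl⟩ := QuotientGroup.mk'_surjective _ q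
    have hc : orderOf (g * t * g⁻¹) = 2 := (orderOf_conj_eq g t).trans ht
    have hm : t * (g * t * g⁻¹) ∈ N := by
      have := hmem g
      rw [invol_inv ht] at this
      simpa [mul_assoc] using this
    have ho : Odd (orderOf (t * (g * t * g⁻¹))) :=
      hodd.of_dvd_nat (Subgroup.orderOf_dvd_natCard N hm)
    obtain ⟨j, hj⟩ := ho
    set m := t * (g * t * g⁻¹) with hmdef
    have htt := invol_mul_self ht
    have hinv : ∀ i : ℕ, t * m ^ i * t = (m ^ i)⁻¹ := fun i => by
      rw [← zpow_natCast, ← zpow_neg]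
      exact invert_zpow htt (invert_mul htt (invol_mul_self hc)) _
    have hr : m ^ (j + 1) * m ^ (j + 1) = m := by
      rw [← pow_add, show j + 1 + (j + 1) = orderOf m + 1 by omega, pow_succ, pow_orderOf_eq_one,
        one_mul]
    refine ⟨⟨m ^ (j + 1) * g, ?_⟩, ?_⟩
    · rw [mem_centralizer_singleton_iff]
      have h1 : g * t * g⁻¹ = t * m := by rw [hmdef, ← mul_assoc, htt, one_mul]
      have h2 : m ^ (j + 1) * (t * m) = t * m ^ (j + 1) := by
        have h3 := hinv (j + 1)
        calc m ^ (j + 1) * (t * m) = (t * t) * m ^ (j + 1) * t * m := by rw [htt]; group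
          _ = t * (t * m ^ (j + 1) * t) * m := by group
          _ = t * ((m ^ (j + 1))⁻¹ * (m ^ (j + 1) * m ^ (j + 1))) := by rw [h3, hr]; group
          _ = t * m ^ (j + 1) := by group
      calc m ^ (j + 1) * g * t = m ^ (j + 1) * (g * t * g⁻¹) * g := by group
        _ = m ^ (j + 1) * (t * m) * g := by rw [h1]
        _ = t * m ^ (j + 1) * g := by rw [h2]
        _ = t * (m ^ (j + 1) * g) := mul_assoc _ _ _
    · rw [MonoidHom.comp_apply, coe_subtype, map_mul,
        show QuotientGroup.mk' N (m ^ (j + 1)) = 1 from (QuotientGroup.eq_one_iff _).2 (pow_mem hm _),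
        one_mul]
  · have := isCNGroup h t (invol_ne_one ht)
    infer_instance

/-- All involutions of a Sylow subgroup are central in it. -/
theorem invol_central (S : Sylow 2 G) {s : G} (hs : orderOf s = 2) (hsS : s ∈ S) :
    ∀ g ∈ S, g * s = s * g := by
  obtain ⟨t, ht, htS, htc⟩ := exists_central h hns S
  obtain ⟨g, hg⟩ := isConj_iff.1 (isConj_involutions (strongly_embedded h hns S) ht hs)
  have hgM := mem_of_conj_mem (strongly_embedded h hns S) ht (le_normalizer htS)
    (le_normalizer (hg.symm ▸ hsS : g * t * g⁻¹ ∈ (S : Subgroup G)))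
  intro x hx
  have hx' : g⁻¹ * x * g ∈ S := (mem_normalizer_iff''.1 hgM x).1 hx
  have := htc _ hx'
  rw [← hg]
  calc x * (g * t * g⁻¹) = g * ((g⁻¹ * x * g) * t) * g⁻¹ := by group
    _ = g * (t * (g⁻¹ * x * g)) * g⁻¹ := by rw [this]
    _ = _ := by group

/-- The centralisers of involutions of one Sylow subgroup coincide. -/
theorem centralizer_eq (S : Sylow 2 G) {s t : G} (hs : orderOf s = 2) (hsS : s ∈ S)
    (ht : orderOf t = 2) (htS : t ∈ S) :
    centralizer ({s} : Set G) = centralizer ({t} : Set G) := by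
  suffices key : ∀ s t : G, orderOf s = 2 → s ∈ S → orderOf t = 2 → t ∈ S →
      centralizer ({s} : Set G) ≤ centralizer ({t} : Set G) from
    le_antisymm (key s t hs hsS ht htS) (key t s ht htS hs hsS)
  intro s t hs hsS ht htS y hy
  refine CNGroup.Basic.mem_of_primePower_mem fun p m a hp ha hao => ?_
  have haC : a ∈ centralizer ({s} : Set G) := (zpowers_le.2 hy) ha
  rw [mem_centralizer_singleton_iff]
  by_cases hp2 : p = 2
  · subst hp2
    exact invol_central h hns S ht htS a
      (mem_of_commute h hns S hs hsS (mem_centralizer_singleton_iff.1 haC).symm hao)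
  · refine CNGroup.Basic.commute_of_mem_nilpotent (isCNGroup h s (invol_ne_one hs)) haC
      (mem_centralizer_singleton_iff.2 (invol_central h hns S hs hsS t htS)) ?_
    rw [hao, ht]
    exact Nat.Coprime.pow_left _ ((Nat.coprime_primes hp Nat.prime_two).2 hp2)

/-- The centraliser of a non-identity element of `C(t)` lies in it. -/
theorem centralizer_le_K (S : Sylow 2 G) {t x : G} (ht : orderOf t = 2) (htS : t ∈ S)
    (hx : x ∈ centralizer ({t} : Set G)) (hx1 : x ≠ 1) :
    centralizer ({x} : Set G) ≤ centralizer ({t} : Set G) := by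
  intro y hy
  refine CNGroup.Basic.mem_of_primePower_mem fun p m a hp ha hao => ?_
  have haC : a ∈ centralizer ({x} : Set G) := (zpowers_le.2 hy) ha
  have htC : t ∈ centralizer ({x} : Set G) :=
    mem_centralizer_singleton_iff.2 (mem_centralizer_singleton_iff.1 hx).symm
  rw [mem_centralizer_singleton_iff]
  by_cases hp2 : p = 2
  · subst hp2
    have hnil : Group.IsNilpotent (centralizer ({x} : Set G)) := isCNGroup h x hx1
    obtain ⟨T⟩ := (inferInstance : Nonempty (Sylow 2 (centralizer ({x} : Set G))))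
    have hTn := ((Group.isNilpotent_of_finite_tfae (G := centralizer ({x} : Set G))).out 0 3 rfl rfl).mp
      hnil 2 ⟨Nat.prime_two⟩ T
    have hall : ∀ (z : centralizer ({x} : Set G)) (j : ℕ), orderOf (z : G) = 2 ^ j →
        z ∈ (T : Subgroup (centralizer ({x} : Set G))) := by
      intro z j hj
      have hpz : IsPGroup 2 (zpowers z) :=
        IsPGroup.of_card (n := j) (by rw [Nat.card_zpowers, ← orderOf_coe, hj])
      obtain ⟨T₂, hT₂⟩ := hpz.exists_le_sylow
      have : Subsingleton (Sylow 2 (centralizer ({x} : Set G))) :=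
        (Sylow.unique_of_normal T hTn).instSubsingleton
      rw [Subsingleton.elim T T₂]
      exact hT₂ (mem_zpowers _)
    obtain ⟨S', hS'⟩ := (T.2.map (centralizer ({x} : Set G)).subtype).exists_le_sylow
    have htS' : t ∈ S' := hS' ⟨⟨t, htC⟩, hall _ 1 (by rw [pow_one]; exact ht), rfl⟩
    have haS : a ∈ S := by
      rw [sylow_eq h hns S S' ht htS htS']
      exact hS' ⟨⟨a, haC⟩, hall _ m hao, rfl⟩
    exact invol_central h hns S ht htS a haS
  · refine CNGroup.Basic.commute_of_mem_nilpotent (isCNGroup h x hx1) haC htC ?_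
    rw [hao, ht]
    exact Nat.Coprime.pow_left _ ((Nat.coprime_primes hp Nat.prime_two).2 hp2)

/-- The normaliser of `C(t)` is the normaliser of the Sylow subgroup. -/
theorem normalizer_eq (S : Sylow 2 G) {t : G} (ht : orderOf t = 2) (htS : t ∈ S) :
    normalizer (centralizer ({t} : Set G) : Set G) = normalizer ((S : Subgroup G) : Set G) := by
  have hSE := strongly_embedded h hns S
  refine le_antisymm (fun g hg => ?_) fun g hg => ?_
  · have htM : t ∈ normalizer ((S : Subgroup G) : Set G) := le_normalizer htS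
    exact mem_of_conj_mem hSE ht htM
      (Cfsg.Agent.Lib.Involutions.StronglyEmbedded.centralizer_le hSE ht htM ((mem_normalizer_iff.1 hg t).1 (self_mem t)))
  · have hg' : g * t * g⁻¹ ∈ S := (mem_normalizer_iff.1 hg t).1 htS
    have heq := centralizer_eq h hns S ((orderOf_conj_eq g t).trans ht) hg' ht htS
    refine mem_normalizer h (self_mem t) (by rw [← heq]; exact self_mem _) (invol_ne_one ht)

end Cfsg.Agent.Lib.TICen.Even
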