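import Cfsg.Agent.Lib.Isometry.Criterion
set_option autoImplicit false

/-! Feit's criterion for adjoining one irreducible character to a coherent set, with the numerical
condition weakened to the exclusion of one further solution (after `Isometry.Feit`). -/

namespace Cfsg.Agent.Lib.TICen.Insert

open scoped ComplexConjugate Classical
open Cfsg.Agent.Lib.Isometry.Inner Cfsg.Agent.Lib.Isometry.Coherence Cfsg.Agent.Lib.Isometry.Criterion
open Cfsg.Agent.Lib.Induced.Basic (classInner_add_left classInner_add_right classInner_sub_left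
  classInner_sub_right classInner_smul_left classInner_smul_right classInner_conj_symm)
open Cfsg.Agent.Lib.Characters.Basic (classInner_zero_left classInner_zero_right classInner_sum_left
  classInner_sum_right)

universe u v
variable {L : Type u} [Group L] [Fintype L] {G : Type v} [Group G] [Fintype G]

theorem coherent_insert (S₀ : Finset (L → ℂ)) (χ : L → ℂ)
    (hirr : ∀ ξ ∈ S₀, Cfsg.IsIrrCharacter L ξ) (hχ : Cfsg.IsIrrCharacter L χ) (hχS : χ ∉ S₀)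
    (d : (L → ℂ) → ℕ) (hd : ∀ ξ ∈ insert χ S₀, ξ 1 = (d ξ : ℂ)) (τ : (L → ℂ) → (G → ℂ))
    (hτ : Cfsg.IsLinearIsometryOn (Cfsg.zspanOn (↑(insert χ S₀) : Set (L → ℂ)) {1}ᶜ) τ)
    (hτ1 : ∀ α ∈ Cfsg.zspanOn (↑(insert χ S₀) : Set (L → ℂ)) {1}ᶜ, τ α 1 = 0)
    (hcoh : Cfsg.IsCoherent (↑S₀ : Set (L → ℂ)) {1}ᶜ τ) (ψ : L → ℂ) (hψ : ψ ∈ S₀)
    (a : ℕ) (ha : d χ = d ψ * a)
    (hrange : ∀ b : ℤ, b ^ 2 * (∑ ξ ∈ S₀, (d ξ : ℤ) ^ 2) ≤
      2 * a * b * (d ψ : ℤ) ^ 2 + (d ψ : ℤ) ^ 2 → b = 0 ∨ b = 1)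
    (hone : ∀ T₁ : (L → ℂ) → (G → ℂ),
      Cfsg.IsLinearIsometryOn (Cfsg.zspan (↑S₀ : Set (L → ℂ))) T₁ →
      (∀ α ∈ Cfsg.zspanOn (↑S₀ : Set (L → ℂ)) {1}ᶜ, T₁ α = τ α) →
      Cfsg.classInner (τ (χ - ((a : ℤ) : ℂ) • ψ)) (T₁ ψ) ≠ ((1 - a : ℤ) : ℂ)) :
    Cfsg.IsCoherent (↑(insert χ S₀) : Set (L → ℂ)) {1}ᶜ τ := by
  obtain ⟨⟨α₀, hα₀, hα₀ne⟩, T₁, hT₁, hagree⟩ := hcoh
  set U : Set (L → ℂ) := ↑(insert χ S₀) with hU
  have hsubU : (↑S₀ : Set (L → ℂ)) ⊆ U := by simp [hU]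
  have hirrU : ∀ ξ ∈ insert χ S₀, Cfsg.IsIrrCharacter L ξ := by
    intro ξ h; rcases Finset.mem_insert.1 h with rfl | h
    exacts [hχ, hirr ξ h]
  have hmemU : ∀ ξ ∈ insert χ S₀, ξ ∈ Cfsg.zspan U := fun ξ h =>
    subset_zspan U (Finset.mem_coe.2 h)
  have hdpos : ∀ ξ ∈ insert χ S₀, 0 < d ξ := by
    intro ξ h
    rcases Nat.eq_zero_or_pos (d ξ) with h0 | h0
    · exact absurd (by rw [hd ξ h, h0, Nat.cast_zero])
        (apply_one_ne_zero_of_signed (Or.inl (hirrU ξ h)))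
    · exact h0
  have hχi : χ ∈ insert χ S₀ := Finset.mem_insert_self _ _
  have hi : ∀ {ξ : L → ℂ}, ξ ∈ S₀ → ξ ∈ insert χ S₀ := fun h => Finset.mem_insert_of_mem h
  have hin : ∀ ξ ∈ insert χ S₀, ∀ η ∈ insert χ S₀,
      Cfsg.classInner ξ η = if ξ = η then 1 else 0 :=
    fun ξ h η h' => classInner_irr_eq (hirrU ξ h) (hirrU η h')
  have hψp : 0 < d ψ := hdpos ψ (hi hψ)
  have hapos : 0 < a := by
    have := hdpos χ hχi; rw [ha] at this; exact Nat.pos_of_mul_pos_left this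
  set w := χ - ((a : ℤ) : ℂ) • ψ with hwdef
  have hw : w ∈ Cfsg.zspanOn U {1}ᶜ := mem_zspanOn_one.2
    ⟨zspan_sub (hmemU χ hχi) (zspan_smul _ (hmemU ψ (hi hψ))),
      by rw [hwdef, Pi.sub_apply, Pi.smul_apply, hd χ hχi, hd ψ (hi hψ), ha, smul_eq_mul]
         push_cast; ring⟩
  set v := τ w with hvdef
  have hv : Cfsg.IsGeneralizedCharacter G v := hτ.2.2.2 _ hw
  have hmS : ∀ ξ ∈ S₀, ξ ∈ Cfsg.zspan (↑S₀ : Set (L → ℂ)) := fun ξ h =>
    subset_zspan _ (Finset.mem_coe.2 h)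
  have hTin : ∀ ξ ∈ S₀, ∀ η ∈ S₀, Cfsg.classInner (T₁ ξ) (T₁ η) = if ξ = η then 1 else 0 :=
    fun ξ h η h' => by rw [hT₁.2.2.1 _ (hmS ξ h) _ (hmS η h'), hin ξ (hi h) η (hi h')]
  have hTgen : ∀ ξ ∈ S₀, Cfsg.IsGeneralizedCharacter G (T₁ ξ) := fun ξ h => hT₁.2.2.2 _ (hmS ξ h)
  have hcex : ∀ ξ, ∃ c : ℤ, ξ ∈ S₀ → Cfsg.classInner v (T₁ ξ) = c := fun ξ => by
    by_cases h : ξ ∈ S₀
    · obtain ⟨c, hc⟩ := classInner_gen_int hv (hTgen ξ h); exact ⟨c, fun _ => hc⟩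
    · exact ⟨0, fun h' => absurd h' h⟩
  choose c hc using hcex
  set δ : (L → ℂ) → ℤ := fun ξ => if ξ = ψ then 1 else 0 with hδ
  set b : ℤ := c ψ + a with hb
  -- relation from the degree-zero elements of the old lattice
  have hz : ∀ ξ ∈ S₀, ((d ψ : ℤ) : ℂ) • ξ - ((d ξ : ℤ) : ℂ) • ψ ∈
      Cfsg.zspanOn (↑S₀ : Set (L → ℂ)) {1}ᶜ := fun ξ h => mem_zspanOn_one.2
    ⟨zspan_sub (zspan_smul _ (hmS ξ h)) (zspan_smul _ (hmS ψ hψ)),
      by rw [Pi.sub_apply, Pi.smul_apply, Pi.smul_apply, hd ξ (hi h), hd ψ (hi hψ), smul_eq_mul,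
           smul_eq_mul]
         push_cast; ring⟩
  have hTz : ∀ ξ ∈ S₀, τ (((d ψ : ℤ) : ℂ) • ξ - ((d ξ : ℤ) : ℂ) • ψ) =
      ((d ψ : ℤ) : ℂ) • T₁ ξ - ((d ξ : ℤ) : ℂ) • T₁ ψ := by
    intro ξ h
    rw [← hagree _ (hz ξ h), span_iso_sub hT₁ (zspan_smul _ (hmS ξ h)) (zspan_smul _ (hmS ψ hψ)),
      span_iso_smul hT₁ (hmS ξ h), span_iso_smul hT₁ (hmS ψ hψ)]
  have hrel : ∀ ξ ∈ S₀, (d ψ : ℤ) * (c ξ + a * δ ξ) = d ξ * b := by
    intro ξ h
    have h' := hτ.2.2.1 w hw _ (zspanOn_mono _ hsubU (hz ξ h))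
    rw [← hvdef, hTz ξ h, classInner_sub_right, classInner_smul_right, classInner_smul_right,
      map_intCast, map_intCast, hc ξ h, hc ψ hψ, hwdef] at h'
    simp only [classInner_sub_left, classInner_sub_right, classInner_smul_left,
      classInner_smul_right, map_intCast, hin χ hχi ξ (hi h), hin χ hχi ψ (hi hψ),
      hin ψ (hi hψ) ξ (hi h), hin ψ (hi hψ) ψ (hi hψ), if_pos rfl,
      if_neg (show χ ≠ ξ from fun e => hχS (e ▸ h)),
      if_neg (show χ ≠ ψ from fun e => hχS (e ▸ hψ))] at h'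
    have e : ((d ψ : ℤ) * c ξ - d ξ * c ψ : ℤ) =
        d ψ * (0 - a * δ ξ) - d ξ * (0 - (a : ℤ)) := by
      have h2 : (((d ψ : ℤ) * c ξ - d ξ * c ψ : ℤ) : ℂ) =
          ((d ψ * (0 - a * δ ξ) - d ξ * (0 - (a : ℤ)) : ℤ) : ℂ) := by
        by_cases he : ξ = ψ
        · simp only [hδ, if_pos he, if_pos he.symm] at h' ⊢; push_cast at h' ⊢; linear_combination h'
        · simp only [hδ, if_neg he, if_neg (Ne.symm he)] at h' ⊢
          push_cast at h' ⊢; linear_combination h'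
      exact_mod_cast h2
    rw [hb]; linear_combination e
  have hres := bessel S₀ T₁ (fun _ => (1 : ℝ)) (fun ξ => (c ξ : ℝ)) v
    (fun i h j h' hne => by rw [hTin i h j h', if_neg hne])
    (fun i h => by rw [hTin i h i h, if_pos rfl]; simp)
    (fun _ _ => one_ne_zero) (fun i h => by rw [hc i h]; simp)
  have hvv : Cfsg.classInner v v = (((1 + (a : ℤ) ^ 2 : ℤ)) : ℂ) := by
    rw [hvdef, hτ.2.2.1 _ hw _ hw, hwdef]
    simp only [classInner_sub_left, classInner_sub_right, classInner_smul_left,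
      classInner_smul_right, map_intCast, hin χ hχi ψ (hi hψ), hin ψ (hi hψ) χ hχi,
      hin χ hχi χ hχi, hin ψ (hi hψ) ψ (hi hψ), if_pos rfl,
      if_neg (show χ ≠ ψ from fun e => hχS (e ▸ hψ)), if_neg (show ψ ≠ χ from fun e => hχS (e ▸ hψ))]
    push_cast; ring
  set u := v - ∑ i ∈ S₀, (c i : ℂ) • T₁ i with hu
  have hres' : Cfsg.classInner u u = ((1 + (a : ℤ) ^ 2 - ∑ i ∈ S₀, c i ^ 2 : ℤ) : ℂ) := by
    rw [Int.cast_sub, ← hvv, hu]
    simpa using hres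
  have hle : ∑ i ∈ S₀, c i ^ 2 ≤ 1 + (a : ℤ) ^ 2 := by
    have := classInner_self_re_nonneg u
    rw [hres'] at this
    simp only [Complex.intCast_re] at this
    have h : (0 : ℤ) ≤ 1 + (a : ℤ) ^ 2 - ∑ i ∈ S₀, c i ^ 2 := by exact_mod_cast this
    linarith
  set q : ℤ := ∑ ξ ∈ S₀, (d ξ : ℤ) ^ 2 with hq
  have hsq : (d ψ : ℤ) ^ 2 * ∑ i ∈ S₀, c i ^ 2 =
      b ^ 2 * q - 2 * a * b * (d ψ : ℤ) ^ 2 + (a : ℤ) ^ 2 * (d ψ : ℤ) ^ 2 := by
    have e : ∀ i ∈ S₀, (d ψ : ℤ) ^ 2 * c i ^ 2 = b ^ 2 * (d i : ℤ) ^ 2 +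
        δ i * ((a : ℤ) ^ 2 * (d ψ : ℤ) ^ 2 - 2 * a * b * (d ψ : ℤ) ^ 2) := by
      intro i h
      have := hrel i h
      by_cases he : i = ψ
      · subst he; simp only [hδ, if_pos] at this ⊢
        linear_combination ((d i : ℤ) * c i + d i * b - a * d i) * this
      · simp only [hδ, if_neg he] at this ⊢
        linear_combination ((d ψ : ℤ) * c i + d i * b) * this
    rw [Finset.mul_sum, Finset.sum_congr rfl e, Finset.sum_add_distrib, ← Finset.mul_sum,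
      ← Finset.sum_mul, ← hq]
    simp only [hδ, Finset.sum_ite_eq', if_pos hψ]
    ring
  have hd2 : (0 : ℤ) < (d ψ : ℤ) ^ 2 := by positivity
  have hb01 : b = 0 ∨ b = 1 := hrange b (by
    have h4 := mul_le_mul_of_nonneg_left hle hd2.le
    rw [hsq] at h4
    linarith)
  have hb0 : b = 0 := hb01.resolve_right fun h => hone T₁ hT₁ hagree (by
    rw [hc ψ hψ, show c ψ = 1 - (a : ℤ) by omega])
  have hcval : ∀ i ∈ S₀, c i = -((a : ℤ) * δ i) := by
    intro i h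
    have := hrel i h
    rw [hb0, mul_zero] at this
    have := (mul_eq_zero.1 this).resolve_left (by exact_mod_cast hψp.ne')
    linarith
  have hsum1 : ∑ i ∈ S₀, c i ^ 2 = (a : ℤ) ^ 2 := by
    rw [Finset.sum_eq_single ψ (fun i h hne => by rw [hcval i h]; simp [hδ, hne])
      (fun h => absurd hψ h), hcval ψ hψ]
    simp [hδ]
  have huu : Cfsg.classInner u u = 1 := by rw [hres', hsum1]; push_cast; ring
  have hugen : Cfsg.IsGeneralizedCharacter G u :=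
    gen_sub hv (gen_sum _ fun i h => gen_intCast_smul (hTgen i h) _)
  have huperp : ∀ i ∈ S₀, Cfsg.classInner u (T₁ i) = 0 := by
    intro i h
    rw [hu, classInner_sub_left, classInner_sum_left, Finset.sum_eq_single i
      (fun j hj hne => by rw [classInner_smul_left, hTin j hj i h, if_neg hne, mul_zero])
      (fun h' => absurd h h'), classInner_smul_left, hTin i h i h, if_pos rfl, hc i h, mul_one,
      sub_self]
  have hwu : v = u - ((a : ℤ) : ℂ) • T₁ ψ := by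
    rw [hu, Finset.sum_eq_single ψ (fun i h hne => by rw [hcval i h]; simp [hδ, hne])
      (fun h => absurd hψ h), hcval ψ hψ]
    simp [hδ]
  set f := fun y => if y = χ then u else T₁ y with hf
  have fχ : f χ = u := if_pos rfl
  have fS : ∀ ξ ∈ S₀, f ξ = T₁ ξ := fun ξ h => if_neg fun (e : ξ = χ) => hχS (e ▸ h)
  refine coherent_of_images (fun p hp r hr hne => by rw [hin p hp r hr, if_neg hne])
    (fun p hp e => apply_one_ne_zero_of_signed (Or.inl (hirrU p hp)) (by rw [e]; rfl)) f ?_ ?_ ?_ ?_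
  · intro p hp
    rcases Finset.mem_insert.1 hp with hp' | hp'
    · rw [hp', fχ]; exact hugen
    · rw [fS p hp']; exact hTgen p hp'
  · intro p hp r hr
    rw [hin p hp r hr]
    rcases Finset.mem_insert.1 hp with hp' | hp' <;> rcases Finset.mem_insert.1 hr with hr' | hr'
    · rw [hp', hr', fχ, huu, if_pos rfl]
    · rw [hp', fχ, fS r hr', huperp r hr', if_neg fun (e : χ = r) => hχS (e ▸ hr')]
    · rw [hr', fχ, fS p hp', ← classInner_conj_symm u, huperp p hp', map_zero,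
        if_neg fun (e : p = χ) => hχS (e ▸ hp')]
    · rw [fS p hp', fS r hr', hTin p hp' r hr']
  · exact ⟨w, hw, fun e => by
      have := congrArg (fun z => Cfsg.classInner z χ) e
      simp [hwdef, classInner_sub_left, classInner_smul_left, hin χ hχi χ hχi, hin ψ (hi hψ) χ hχi,
        show ψ ≠ χ from fun e => hχS (e ▸ hψ), classInner_zero_left] at this⟩
  · intro T hT α hα
    obtain ⟨hαs, hα1⟩ := mem_zspanOn_one.1 hα
    set W := Submodule.span ℤ (↑S₀ : Set (L → ℂ)) with hW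
    have key : ∀ β ∈ Cfsg.zspan U, ∃ m : ℤ, β - (m : ℂ) • w ∈ W := by
      intro β hβ
      induction hβ using Submodule.span_induction with
      | mem z hz =>
        rcases Finset.mem_insert.1 (Finset.mem_coe.1 hz) with rfl | hz
        · refine ⟨1, ?_⟩
          have : z - ((1 : ℤ) : ℂ) • w = ((a : ℤ) : ℂ) • ψ := by simp [hwdef]
          rw [this]; exact zspan_smul _ (hmS ψ hψ)
        · exact ⟨0, by simpa using Submodule.subset_span (Finset.mem_coe.2 hz)⟩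
      | zero => exact ⟨0, by simp⟩
      | add p r _ _ ihp ihr =>
        obtain ⟨m, hp⟩ := ihp
        obtain ⟨m', hr⟩ := ihr
        refine ⟨m + m', ?_⟩
        convert W.add_mem hp hr using 1
        push_cast; rw [add_smul]; abel
      | smul t p _ ih =>
        obtain ⟨m, hp⟩ := ih
        refine ⟨t * m, ?_⟩
        convert W.smul_mem t hp using 1
        funext y
        simp only [Pi.sub_apply, Pi.smul_apply, zsmul_eq_mul, smul_eq_mul, Pi.mul_apply,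
          Pi.intCast_apply]
        push_cast; ring
    obtain ⟨m, hβ⟩ := key α hαs
    set β := α - (m : ℂ) • w
    have hw1 : w 1 = 0 := (mem_zspanOn_one.1 hw).2
    have hβ1 : β ∈ Cfsg.zspanOn (↑S₀ : Set (L → ℂ)) {1}ᶜ :=
      mem_zspanOn_one.2 ⟨hβ, by simp [β, hα1, hw1]⟩
    have Tw : T w = τ w := by
      rw [hwdef, map_sub, map_smul, hT χ hχi, hT ψ (hi hψ), fχ, fS ψ hψ]
      exact hwu.symm
    have Tβ : T β = τ β := by
      rw [← hagree β hβ1]
      exact span_iso_agree hT₁ T (fun y hy => by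
        rw [hT y (hi (Finset.mem_coe.1 hy)), fS y (Finset.mem_coe.1 hy)]) hβ1.1
    have dec : α = β + (m : ℂ) • w := by simp [β]
    have mW : (m : ℂ) • w ∈ Cfsg.zspanOn U {1}ᶜ := by
      rw [Int.cast_smul_eq_zsmul]; exact (zspanOnMod U {1}ᶜ).smul_mem m hw
    rw [dec, map_add, map_smul, Tw, Tβ, hτ.1 _ (zspanOn_mono _ hsubU hβ1) _ mW, iso_smul hτ hw]

end Cfsg.Agent.Lib.TICen.Insert
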