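import Cfsg.Agent.Lib.Isometry.FeitCoherence

/-!
# Exceptional kernels with normal element centralisers

`structure_of_small` : a nonabelian `2`-group kernel of index `e = 2^n - 1` with small
abelianisation, central involutions and normal element centralisers has order `(e + 1)^3` and
derived subgroup the set of elements of square one.
-/

set_option autoImplicit false
set_option linter.unusedSectionVars false

namespace Cfsg.Agent.Lib.TICen.Structure

open Subgroup Cfsg.Agent.Lib.Isometry.Layers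
open scoped commutatorElement

universe u

variable {L : Type u} [Group L] [Fintype L] {K : Subgroup L} [K.Normal]

/-- The powers of two that are `1` modulo `2^n - 1`. -/
theorem pow_cases {n e x a : ℕ} (hn : e + 1 = 2 ^ n) (he : 3 ≤ e) (hx : x ∣ 2 ^ a)
    (hm : x ≡ 1 [MOD e]) (hlt : x < (e + 1) ^ 3) : x = 1 ∨ x = e + 1 ∨ x = (e + 1) ^ 2 := by
  obtain ⟨k, -, rfl⟩ := (Nat.dvd_prime_pow Nat.prime_two).1 hx
  have hn0 : 2 ≤ n := by
    by_contra h
    have : 2 ^ n ≤ 2 ^ 1 := Nat.pow_le_pow_right (by norm_num) (by omega)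
    omega
  have hr : k % n = 0 := by
    by_contra hr
    have h1 : (e + 1) ^ (k / n) ≡ 1 [MOD e] := by
      simpa using (show e + 1 ≡ 1 [MOD e] by simp [Nat.ModEq]).pow (k / n)
    have h2 : 2 ^ (k % n) ≡ 1 [MOD e] := by
      have h3 : 2 ^ k = (e + 1) ^ (k / n) * 2 ^ (k % n) := by
        rw [hn, ← pow_mul, ← pow_add, Nat.div_add_mod]
      rw [h3] at hm
      exact ((h1.mul_right (2 ^ (k % n))).symm.trans hm).symm.symm |> fun h => by simpa using h
    have h4 : 2 ^ (k % n) ≤ 2 ^ (n - 1) :=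
      Nat.pow_le_pow_right (by norm_num) (by have := Nat.mod_lt k (show n > 0 by omega); omega)
    have h5 : 2 * 2 ^ (n - 1) = 2 ^ n := by rw [← pow_succ']; congr 1; omega
    have h6 : 1 < 2 ^ (k % n) := Nat.one_lt_two_pow hr
    rw [Nat.ModEq, Nat.mod_eq_of_lt (show 2 ^ (k % n) < e by omega),
      Nat.mod_eq_of_lt (show 1 < e by omega)] at h2
    omega
  have hk : 2 ^ k = (e + 1) ^ (k / n) := by
    rw [hn, ← pow_mul, Nat.mul_div_cancel' (Nat.dvd_of_mod_eq_zero hr)]
  rw [hk] at hlt ⊢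
  have : k / n < 3 := (Nat.pow_lt_pow_iff_right (by omega)).1 hlt
  interval_cases k / n <;> simp

/-- The centre of an element centraliser. -/
def abSub (x : L) : Subgroup L :=
  centralizer ({x} : Set L) ⊓ centralizer (centralizer ({x} : Set L) : Set L)

theorem mem_abSub (x : L) : x ∈ abSub x :=
  mem_inf.2 ⟨mem_centralizer_singleton_iff.2 rfl, mem_centralizer_iff.2 fun y hy =>
    mem_centralizer_singleton_iff.1 hy⟩

theorem abSub_comm {x a b : L} (ha : a ∈ abSub x) (hb : b ∈ abSub x) : a * b = b * a :=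
  mem_centralizer_iff.1 (mem_inf.1 hb).2 a (mem_inf.1 ha).1

/-- A subgroup generated by two abelian normal subgroups has its derived subgroup in each. -/
theorem commutator_le_left_part {A B : Subgroup L} [A.Normal] (hB : ∀ a ∈ B, ∀ b ∈ B, a * b = b * a)
    (hK : K ≤ A ⊔ B) : ⁅K, K⁆ ≤ A := by
  rw [commutator_le]
  intro a ha b hb
  obtain ⟨a₁, ha₁, a₂, ha₂, rfl⟩ := mem_sup_of_normal_left.1 (hK ha)
  obtain ⟨b₁, hb₁, b₂, hb₂, rfl⟩ := mem_sup_of_normal_left.1 (hK hb)
  rw [← QuotientGroup.eq_one_iff]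
  change QuotientGroup.mk' A _ = 1
  rw [map_commutatorElement, map_mul, map_mul]
  simp only [QuotientGroup.mk'_apply, (QuotientGroup.eq_one_iff a₁).2 ha₁,
    (QuotientGroup.eq_one_iff b₁).2 hb₁, one_mul]
  rw [commutatorElement_eq_one_iff_mul_comm, ← QuotientGroup.mk_mul, ← QuotientGroup.mk_mul,
    hB a₂ ha₂ b₂ hb₂]

variable (hC : ∀ k ∈ K, k ≠ 1 → centralizer ({k} : Set L) ≤ K)

include hC in
/-- The structure of an exceptional kernel. -/
theorem structure_of_small (hp : IsPGroup 2 K) {n : ℕ} (hn : K.index + 1 = 2 ^ n) (he : 3 ≤ K.index)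
    (hcount : Nat.card {v : L // v ∈ K ∧ v * v = 1} = K.index + 1)
    (hnorm : ∀ x ∈ K, x ≠ 1 → (centralizer ({x} : Set L)).Normal)
    (hnc : ¬ ∀ a ∈ K, ∀ b ∈ K, a * b = b * a)
    (hsmall : (K.lowerCentralSeries 1).relIndex K ≤ 4 * K.index ^ 2 + 1) :
    (K.lowerCentralSeries 1).relIndex K = (K.index + 1) ^ 2 ∧
      Nat.card (K.lowerCentralSeries 1) = K.index + 1 ∧
      (∀ x ∈ K, x * x ∈ K.lowerCentralSeries 1) ∧
      (∀ z ∈ K.lowerCentralSeries 1, z * z = 1) ∧
      ∀ z ∈ K.lowerCentralSeries 1, ∀ x ∈ K, z * x = x * z := by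
  have hne : K ≠ ⊥ := fun h => hnc fun a ha b hb => by
    rw [h, mem_bot] at ha hb; rw [ha, hb]
  have htop : K ≠ ⊤ := fun h => by rw [h, index_top] at he; omega
  obtain ⟨N, hN⟩ := (isNilpotent_iff_lowerCentralSeries K).1 (isNilpotent_kernel hC htop)
  have hZn : (K.lowerCentralSeries 1).Normal := lcs_normal 1
  set Z := K.lowerCentralSeries 1 with hZdef
  have hZeq : Z = ⁅K, K⁆ := by
    rw [hZdef, Subgroup.lowerCentralSeries_succ, Subgroup.lowerCentralSeries_zero]
  have hZK : Z ≤ K := lcs_le 1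
  have hlt : Z < K := Isometry.FeitCoherence.lcs_one_lt hC hne htop
  obtain ⟨a, ha⟩ := IsPGroup.iff_card.1 hp
  set e := K.index with hedef
  have hcube : 4 * e ^ 2 + 1 < (e + 1) ^ 3 := by nlinarith [Nat.mul_le_mul_right (e * e) he]
  have hpos : ∀ M : Subgroup L, 0 < M.relIndex K := fun M =>
    Nat.pos_of_ne_zero (index_ne_zero_of_finite (H := M.subgroupOf K))
  have hrel : ∀ M : Subgroup L, M.Normal → Z ≤ M → M ≤ K →
      M.relIndex K = 1 ∨ M.relIndex K = e + 1 ∨ M.relIndex K = (e + 1) ^ 2 := fun M hM hZM hMK =>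
    pow_cases hn he (ha ▸ index_dvd_card (M.subgroupOf K)) (relIndex_modEq hC M hMK)
      (lt_of_le_of_lt ((Nat.le_of_dvd (hpos Z) (relIndex_dvd_of_le_left K hZM)).trans hsmall) hcube)
  have hstrict : ∀ M M' : Subgroup L, M < M' → M' ≤ K → M'.relIndex K < M.relIndex K := by
    intro M M' hMM hMK
    rw [← relIndex_mul_relIndex M M' K hMM.le hMK]
    have h1 : 2 ≤ M.relIndex M' := by
      have h0 : M.relIndex M' ≠ 0 := index_ne_zero_of_finite (H := M.subgroupOf M')
      have h1 : M.relIndex M' ≠ 1 := fun h => hMM.not_ge (relIndex_eq_one.1 h)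
      omega
    nlinarith [hpos M']
  have hone : ∀ M : Subgroup L, M ≤ K → M.relIndex K = 1 → M = K := fun M hMK h =>
    le_antisymm hMK (relIndex_eq_one.1 h)
  -- the abelian normal subgroup of `x`
  have habn : ∀ x ∈ K, x ≠ 1 → (abSub x).Normal ∧ abSub x ≤ K := fun x hx hx1 => by
    have := hnorm x hx hx1
    exact ⟨Subgroup.normal_inf_normal _ _, inf_le_left.trans (hC x hx hx1)⟩
  have hsupne : ∀ x ∈ K, x ≠ 1 → abSub x ⊔ Z ≠ K := by
    intro x hx hx1 h
    have := (habn x hx hx1).1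
    have hle : K ≤ abSub x :=
      le_of_sup_derived hN (N := abSub x) (by rw [h, sup_eq_right.2 (habn x hx hx1).2])
    exact hnc fun a ha b hb => abSub_comm (hle ha) (hle hb)
  have hmid : ∀ x ∈ K, x ∉ Z → Z.relIndex K = (e + 1) ^ 2 ∧
      (abSub x ⊔ Z).relIndex K = e + 1 := by
    intro x hx hxZ
    have hx1 : x ≠ 1 := fun h => hxZ (h ▸ one_mem _)
    have := (habn x hx hx1).1
    have hM : abSub x ⊔ Z ≤ K := sup_le (habn x hx hx1).2 hZK
    have hgt : Z < abSub x ⊔ Z := lt_of_le_of_ne le_sup_right fun h =>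
      hxZ (by rw [h]; exact mem_sup_left (mem_abSub x))
    have h1 := hstrict _ _ hgt hM
    have h2 : (abSub x ⊔ Z).relIndex K ≠ 1 := fun h => hsupne x hx hx1 (hone _ hM h)
    have h3 : e + 1 < (e + 1) ^ 2 := by nlinarith
    rcases hrel Z hZn le_rfl hZK with e1 | e1 | e1 <;>
      rcases hrel _ inferInstance le_sup_right hM with e2 | e2 | e2 <;> rw [e1, e2] at h1 <;>
      first | exact ⟨e1, e2⟩ | omega
  obtain ⟨x, hx, hxZ⟩ := SetLike.exists_of_lt hlt
  have hX := (hmid x hx hxZ).1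
  -- a second element
  have hx1 : x ≠ 1 := fun h => hxZ (h ▸ one_mem _)
  have hA := (habn x hx hx1).1
  have hM : abSub x ⊔ Z ≤ K := sup_le (habn x hx hx1).2 hZK
  obtain ⟨y, hy, hyM⟩ := SetLike.exists_of_lt
    (lt_of_le_of_ne hM (hsupne x hx hx1))
  have hy1 : y ≠ 1 := fun h => hyM (h ▸ one_mem _)
  have hB := (habn y hy hy1).1
  have hKsup : K ≤ abSub x ⊔ abSub y := by
    refine le_of_sup_derived hN (N := abSub x ⊔ abSub y) ?_
    have hM' : abSub x ⊔ abSub y ⊔ Z ≤ K :=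
      sup_le (sup_le (habn x hx hx1).2 (habn y hy hy1).2) hZK
    rw [sup_eq_right.2 (sup_le (habn x hx hx1).2 (habn y hy hy1).2)]
    refine hone _ hM' ?_
    have hgt : abSub x ⊔ Z < abSub x ⊔ abSub y ⊔ Z :=
      lt_of_le_of_ne (sup_le_sup_right le_sup_left _) fun h =>
        hyM (by rw [h]; exact mem_sup_left (mem_sup_right (mem_abSub y)))
    have h1 := hstrict _ _ hgt hM'
    rw [(hmid x hx hxZ).2] at h1
    have h3 : e + 1 < (e + 1) ^ 2 := by nlinarith
    rcases hrel _ inferInstance le_sup_right hM' with e2 | e2 | e2 <;> rw [e2] at h1 <;>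
      first | exact e2 | omega
  have hcA : ∀ a ∈ abSub x, ∀ b ∈ abSub x, a * b = b * a := fun a ha b hb => abSub_comm ha hb
  have hcB : ∀ a ∈ abSub y, ∀ b ∈ abSub y, a * b = b * a := fun a ha b hb => abSub_comm ha hb
  have hZA : Z ≤ abSub x := hZeq ▸ commutator_le_left_part hcB hKsup
  have hZB : Z ≤ abSub y := hZeq ▸ commutator_le_left_part hcA (sup_comm (abSub x) _ ▸ hKsup)
  have hcen : ∀ z ∈ Z, ∀ k ∈ K, z * k = k * z := fun z hz k hk =>
    (mem_centralizer_singleton_iff.1 (show k ∈ centralizer ({z} : Set L) from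
      (sup_le (a := abSub x) (b := abSub y) (c := centralizer ({z} : Set L))
        (fun a ha => mem_centralizer_singleton_iff.2 (hcA a ha z (hZA hz)))
        (fun b hb => mem_centralizer_singleton_iff.2 (hcB b hb z (hZB hz)))) (hKsup hk))).symm
  -- squares
  have hcomm : ∀ a ∈ K, ∀ b ∈ K, ⁅a, b⁆ ∈ Z := fun a ha b hb =>
    hZeq ▸ commutator_mem_commutator ha hb
  let S : Subgroup L :=
    { carrier := {k | k ∈ K ∧ k * k ∈ Z}
      one_mem' := ⟨one_mem _, by simp⟩
      inv_mem' := fun {k} hk => ⟨inv_mem hk.1, by rw [← mul_inv_rev]; exact inv_mem hk.2⟩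
      mul_mem' := fun {k l} hk hl => ⟨mul_mem hk.1 hl.1, by
        have h1 : k * l * (k * l) = ⁅k, l⁆ * (l * (k * k) * l⁻¹) * (l * l) := by
          rw [commutatorElement_def]; group
        rw [h1]
        exact mul_mem (mul_mem (hcomm k hk.1 l hl.1) (hZn.conj_mem _ hk.2 l)) hl.2⟩ }
  have hSn : S.Normal := ⟨fun k hk g => ⟨(inferInstance : K.Normal).conj_mem k hk.1 g, by
    rw [show g * k * g⁻¹ * (g * k * g⁻¹) = g * (k * k) * g⁻¹ by group]
    exact hZn.conj_mem _ hk.2 g⟩⟩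
  have hsq : ∀ k ∈ K, k * k ∈ Z := by
    intro k hk
    by_cases hkZ : k ∈ Z
    · exact mul_mem hkZ hkZ
    have hk1 : k ≠ 1 := fun h => hkZ (h ▸ one_mem _)
    have := (habn k hk hk1).1
    set N₁ := abSub k ⊔ Z with hN₁
    have hN₁K : N₁ ≤ K := sup_le (habn k hk hk1).2 hZK
    have hex : ∃ j, k ^ 2 ^ j ∈ Z := by
      obtain ⟨j, hj⟩ := IsPGroup.iff_orderOf.1 hp ⟨k, hk⟩
      refine ⟨j, ?_⟩
      rw [Subgroup.orderOf_mk] at hj
      rw [← hj, pow_orderOf_eq_one]
      exact one_mem _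
    classical
    set i := Nat.find hex with hi
    have hspec : k ^ 2 ^ i ∈ Z := Nat.find_spec hex
    obtain ⟨i', hi'⟩ : ∃ i', i = i' + 1 := by
      rcases Nat.eq_zero_or_pos i with h | h
      · rw [h, pow_zero, pow_one] at hspec; exact absurd hspec hkZ
      · exact ⟨i - 1, by omega⟩
    have hmin : k ^ 2 ^ i' ∉ Z := Nat.find_min hex (by omega)
    have hyS : k ^ 2 ^ i' ∈ S ⊓ N₁ := mem_inf.2 ⟨⟨pow_mem hk _, by
      rw [← pow_add]; rw [hi', pow_succ, mul_two] at hspec; exact hspec⟩,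
      pow_mem (mem_sup_left (mem_abSub k)) _⟩
    have hZS : Z ≤ S ⊓ N₁ := le_inf (fun z hz => ⟨hZK hz, mul_mem hz hz⟩) le_sup_right
    have hgt : Z < S ⊓ N₁ := lt_of_le_of_ne hZS fun h => hmin (h ▸ hyS)
    have hle : S ⊓ N₁ ≤ K := inf_le_right.trans hN₁K
    have h1 := hstrict _ _ hgt hle
    have h2 := (hmid k hk hkZ).2
    have heq : S ⊓ N₁ = N₁ := by
      refine inf_le_right.eq_of_not_lt fun hlt' => ?_
      have h4 := hstrict _ _ hlt' hN₁K
      rw [hX] at h1
      rw [← hN₁] at h2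
      rw [h2] at h4
      have h3 : e + 1 < (e + 1) ^ 2 := by nlinarith
      rcases hrel _ inferInstance hZS hle with e2 | e2 | e2 <;> rw [e2] at h1 h4 <;> omega
    exact ((heq.ge (mem_sup_left (mem_abSub k))).1).2
  have hexp : ∀ z ∈ Z, z * z = 1 := by
    let E : Subgroup L :=
      { carrier := {z | (∀ k ∈ K, z * k = k * z) ∧ z * z = 1 ∧ z ∈ K}
        one_mem' := ⟨fun k _ => by simp, one_mul 1, one_mem _⟩
        inv_mem' := fun {z} hz => ⟨fun k hk => (Commute.inv_left (hz.1 k hk)).eq,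
          by rw [← mul_inv_rev, hz.2.1, inv_one], inv_mem hz.2.2⟩
        mul_mem' := fun {z w} hz hw => ⟨fun k hk => ((show Commute z k from hz.1 k hk).mul_left
          (hw.1 k hk)).eq, by
            rw [mul_assoc, ← mul_assoc w, hw.1 z hz.2.2, mul_assoc z w w, hw.2.1, mul_one, hz.2.1],
          mul_mem hz.2.2 hw.2.2⟩ }
    have : ⁅K, K⁆ ≤ E := by
      rw [commutator_le]
      intro a ha b hb
      refine ⟨fun k hk => hcen _ (hcomm a ha b hb) k hk, ?_, hZK (hcomm a ha b hb)⟩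
      have h1 : ⁅a * a, b⁆ = 1 := by
        rw [commutatorElement_eq_one_iff_mul_comm]; exact hcen _ (hsq a ha) b hb
      have h2 : ⁅a * a, b⁆ = a * ⁅a, b⁆ * a⁻¹ * ⁅a, b⁆ := by
        simp only [commutatorElement_def]; group
      rw [h2, ← hcen _ (hcomm a ha b hb) a ha, mul_inv_cancel_right] at h1
      exact h1
    exact fun z hz => (this (hZeq ▸ hz)).2.1
  refine ⟨hX, ?_, hsq, hexp, hcen⟩
  have hle : Nat.card Z ≤ e + 1 := by
    rw [← hcount]
    exact Nat.card_le_card_of_injective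
      (fun z : Z => (⟨z, hZK z.2, hexp z z.2⟩ : {v : L // v ∈ K ∧ v * v = 1}))
      (fun z w h => Subtype.ext (congrArg Subtype.val h :))
  have hZ1 : Nat.card Z ≠ 1 := fun h => by
    apply hnc
    intro p hp' q hq'
    rw [← commutatorElement_eq_one_iff_mul_comm]
    exact mem_bot.1 (Subgroup.card_eq_one.1 h ▸ hcomm p hp' q hq')
  have hmod : Nat.card Z ≡ 1 [MOD e] := by
    have h1 := relIndex_modEq hC ⊥ bot_le
    rw [← relIndex_mul_relIndex ⊥ Z K bot_le hZK, relIndex_bot_left, hX] at h1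
    have h3 : (e + 1) ^ 2 ≡ 1 [MOD e] := by
      simpa using (show e + 1 ≡ 1 [MOD e] by simp [Nat.ModEq]).pow 2
    exact ((h3.mul_left (Nat.card Z)).symm.trans h1) |> fun h => by simpa using h
  have h0 : 1 ≤ Nat.card Z := Nat.card_pos
  have := Nat.le_of_dvd (by omega) ((Nat.modEq_iff_dvd' h0).1 hmod.symm)
  omega

end Cfsg.Agent.Lib.TICen.Structure
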