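import Cfsg.Agent.Lib.TICen.Parity
import Cfsg.Agent.Lib.TICen.Insert
import Cfsg.Agent.Lib.TICen.Structure
import Cfsg.Agent.Lib.Isometry.TINilpotent

/-!
# Coherence for an exceptional kernel

A kernel with the structure found in `Structure.structure_of_small` has a coherent set of
characters: Feit's criterion fails only for one character, of indicator `-1`, and the exceptional
solution would make a real character of `G` meet characters of both indicators oddly.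
-/

set_option autoImplicit false
set_option linter.unusedSectionVars false

namespace Cfsg.Agent.Lib.TICen.Exceptional

open scoped ComplexConjugate Classical
open Cfsg.Agent.Lib.Isometry.Inner Cfsg.Agent.Lib.Isometry.Inflate Cfsg.Agent.Lib.Isometry.Layers
open Cfsg.Agent.Lib.Induced.Basic (classInner_add_left classInner_add_right classInner_sub_left
  classInner_sub_right classInner_smul_left classInner_smul_right classInner_conj_symm)
open Cfsg.Agent.Lib Cfsg.Agent.Lib.Isometry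

universe u

section Indicator

variable {L : Type u} [Group L] [Fintype L] {K : Subgroup L} [K.Normal]
  (hC : ∀ k ∈ K, k ≠ 1 → Subgroup.centralizer ({k} : Set L) ≤ K)

omit [Fintype L] in
theorem mem_of_sq_mem (hodd : Odd K.index) {s : L} (h : s * s ∈ K) : s ∈ K := by
  obtain ⟨m, hm⟩ := hodd
  have h1 : s ^ K.index ∈ K := Subgroup.pow_index_mem K s
  rw [hm, pow_succ, pow_mul, pow_two] at h1
  exact (Subgroup.mul_mem_cancel_left _ (pow_mem h m)).1 h1

include hC in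
/-- The indicator of a kernel character only involves squares of kernel elements. -/
theorem sum_sq (hodd : Odd K.index) {χ : L → ℂ} (hχ : χ ∈ Inflate.layer K ⊥) :
    ∑ s : L, χ (s * s) = ∑ s : K, χ ((s : L) * s) := by
  rw [← Finset.sum_subset (Finset.subset_univ (Finset.univ.filter fun s : L => s ∈ K))
    (fun s _ hs => Layers.vanish hC hχ fun h => hs (by simpa using mem_of_sq_mem hodd h))]
  exact Finset.sum_subtype _ (fun s => by simp) _

variable {n : ℕ} (hn : K.index + 1 = 2 ^ n) (he : 3 ≤ K.index)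
  (hX : (K.lowerCentralSeries 1).relIndex K = (K.index + 1) ^ 2)
  (hZ : Nat.card (K.lowerCentralSeries 1) = K.index + 1)
  (hsq : ∀ x ∈ K, x * x ∈ K.lowerCentralSeries 1)
  (hcen : ∀ z ∈ K.lowerCentralSeries 1, ∀ x ∈ K, z * x = x * z)
  (hcount : Nat.card {v : L // v ∈ K ∧ v * v = 1} = K.index + 1)

include hC hn he hX hZ hsq hcen hcount

theorem odd_index : Odd K.index := by
  rcases n with _ | m
  · simp only [pow_zero] at hn; omega
  · exact ⟨2 ^ m - 1, by rw [pow_succ] at hn; have := Nat.one_le_two_pow (n := m); omega⟩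

theorem card_kernel : Nat.card K = (K.index + 1) ^ 3 := by
  have h := Subgroup.relIndex_mul_relIndex ⊥ (K.lowerCentralSeries 1) K bot_le (lcs_le 1)
  rw [Subgroup.relIndex_bot_left, Subgroup.relIndex_bot_left, hX, hZ] at h
  rw [← h]; ring

theorem indicator_low {χ : L → ℂ} (hχ : χ ∈ Inflate.layer K (K.lowerCentralSeries 1))
    (hd : mdeg K χ = 1) : (Nat.card L : ℂ)⁻¹ * ∑ s : L, χ (s * s) = 1 := by
  have hχ' := layer_subset (K := K) le_rfl hχ
  rw [sum_sq hC (odd_index hC hn he hX hZ hsq hcen hcount) hχ',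
    Finset.sum_congr rfl fun (s : K) _ => (mem_layer.1 hχ).2.1 _ (hsq (s : L) s.2), Finset.sum_const,
    Finset.card_univ, ← Nat.card_eq_fintype_card, nsmul_eq_mul, (mdeg_spec hC hχ').1, hd, mul_one,
    ← K.card_mul_index, Nat.cast_mul, inv_mul_cancel₀]
  exact mul_ne_zero (Nat.cast_ne_zero.2 Nat.card_pos.ne')
    (Nat.cast_ne_zero.2 Subgroup.index_ne_zero_of_finite)

theorem indicator_top {Θ : L → ℂ} (hΘ : Inflate.layer (K.lowerCentralSeries 1) ⊥ = {Θ})
    (hd : mdeg K Θ = K.index + 1) : (Nat.card L : ℂ)⁻¹ * ∑ s : L, Θ (s * s) = -1 := by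
  haveI := lcs_normal (K := K) 1
  set Z := K.lowerCentralSeries 1 with hZdef
  set e := K.index with hedef
  have hΘm : Θ ∈ Inflate.layer Z ⊥ := by rw [hΘ]; exact Finset.mem_singleton_self _
  have hΘ' : Θ ∈ Inflate.layer K ⊥ := layer_subset (lcs_le 1) hΘm
  have hone : Θ 1 = ((e * (e + 1) : ℕ) : ℂ) := by rw [(mdeg_spec hC hΘ').1, hd]
  have hidx : Z.index = (e + 1) ^ 2 * e := by
    rw [← Subgroup.relIndex_mul_index (lcs_le (K := K) 1), ← hZdef, hX]
  have hval : ∀ g ∈ Z, g ≠ 1 → Θ g = -((e + 1 : ℕ) : ℂ) := by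
    intro g hg hg1
    have h := sum_layer (bot_le : (⊥ : Subgroup L) ≤ Z) g
    rw [hΘ, Finset.sum_singleton, if_pos hg, if_neg (fun h => hg1 (Subgroup.mem_bot.1 h)),
      zero_sub, hone, hidx] at h
    have h0 : ((e * (e + 1) : ℕ) : ℂ) ≠ 0 := Nat.cast_ne_zero.2 (by positivity)
    refine mul_left_cancel₀ h0 ?_
    rw [h]; push_cast; ring
  rw [sum_sq hC (odd_index hC hn he hX hZ hsq hcen hcount) hΘ']
  have hval' : ∀ s : K, Θ ((s : L) * s) =
      if (s : L) * s = 1 then ((e * (e + 1) : ℕ) : ℂ) else -((e + 1 : ℕ) : ℂ) := by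
    intro s
    split_ifs with h
    · rw [h, hone]
    · exact hval _ (hsq s s.2) h
  rw [Finset.sum_congr rfl fun s _ => hval' s, Finset.sum_ite, Finset.sum_const, Finset.sum_const,
    nsmul_eq_mul, nsmul_eq_mul]
  have h1 : (Finset.univ.filter fun s : K => (s : L) * s = 1).card = e + 1 := by
    rw [← hcount, ← Fintype.card_subtype, ← Nat.card_eq_fintype_card]
    exact Nat.card_congr (Equiv.subtypeSubtypeEquivSubtypeInter (· ∈ K) fun v => v * v = 1)
  have h2 : (e + 1) + (Finset.univ.filter fun s : K => ¬(s : L) * s = 1).card = (e + 1) ^ 3 := by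
    rw [← h1, Finset.card_filter_add_card_filter_not, Finset.card_univ, ← Nat.card_eq_fintype_card,
      card_kernel hC hn he hX hZ hsq hcen hcount, h1]
  set w := (Finset.univ.filter fun s : K => ¬(s : L) * s = 1).card
  have h2' : ((e : ℂ) + 1) + (w : ℂ) = ((e : ℂ) + 1) ^ 3 := by exact_mod_cast h2
  rw [h1, ← K.card_mul_index, ← hedef, card_kernel hC hn he hX hZ hsq hcen hcount]
  have he0 : (e : ℂ) ≠ 0 := Nat.cast_ne_zero.2 (by omega)
  have he1 : (e : ℂ) + 1 ≠ 0 := Nat.cast_add_one_ne_zero e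
  push_cast
  field_simp
  linear_combination (-((e : ℂ) + 1)) * h2'

end Indicator

variable {G : Type u} [Group G] [Fintype G] {N H : Subgroup G} [(H.subgroupOf N).Normal]
  (hTI : ∀ g ∉ N, ∀ t ∈ H, g * t * g⁻¹ ∈ H → t = 1)
  (hCN : ∀ k ∈ H.subgroupOf N, k ≠ 1 → Subgroup.centralizer ({k} : Set N) ≤ H.subgroupOf N)
  {n : ℕ} (hn : (H.subgroupOf N).index + 1 = 2 ^ n) (he : 3 ≤ (H.subgroupOf N).index)
  (hX : ((H.subgroupOf N).lowerCentralSeries 1).relIndex (H.subgroupOf N) =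
    ((H.subgroupOf N).index + 1) ^ 2)
  (hZ : Nat.card ((H.subgroupOf N).lowerCentralSeries 1) = (H.subgroupOf N).index + 1)
  (hsq : ∀ x ∈ H.subgroupOf N, x * x ∈ (H.subgroupOf N).lowerCentralSeries 1)
  (hcen : ∀ z ∈ (H.subgroupOf N).lowerCentralSeries 1, ∀ x ∈ H.subgroupOf N, z * x = x * z)
  (hcount : Nat.card {v : N // v ∈ H.subgroupOf N ∧ v * v = 1} = (H.subgroupOf N).index + 1)

include hTI hCN hn he hX hZ hsq hcen hcount

set_option maxHeartbeats 800000 in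
/-- The exceptional solution of Feit's argument does not occur. -/
theorem excluded {Θ ψ : N → ℂ}
    (hψ : ψ ∈ Inflate.layer (H.subgroupOf N) ((H.subgroupOf N).lowerCentralSeries 1))
    (hdeg : ∀ ξ ∈ Inflate.layer (H.subgroupOf N) ((H.subgroupOf N).lowerCentralSeries 1),
      mdeg (H.subgroupOf N) ξ = 1)
    (hcard : (Inflate.layer (H.subgroupOf N) ((H.subgroupOf N).lowerCentralSeries 1)).card =
      (H.subgroupOf N).index + 2)
    (hΘ : Inflate.layer ((H.subgroupOf N).lowerCentralSeries 1) ⊥ = {Θ})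
    (hd : mdeg (H.subgroupOf N) Θ = (H.subgroupOf N).index + 1)
    (T₁ : (N → ℂ) → (G → ℂ))
    (hT₁ : Cfsg.IsLinearIsometryOn (Cfsg.zspan
      (↑(Inflate.layer (H.subgroupOf N) ((H.subgroupOf N).lowerCentralSeries 1)) : Set (N → ℂ))) T₁)
    (hagree : ∀ α ∈ Cfsg.zspanOn
      (↑(Inflate.layer (H.subgroupOf N) ((H.subgroupOf N).lowerCentralSeries 1)) : Set (N → ℂ)) {1}ᶜ,
      T₁ α = Cfsg.indFun N α) :
    Cfsg.classInner (Cfsg.indFun N (Θ - ((((H.subgroupOf N).index + 1 : ℕ) : ℤ) : ℂ) • ψ)) (T₁ ψ) ≠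
      ((1 - (((H.subgroupOf N).index + 1 : ℕ) : ℤ) : ℤ) : ℂ) := by
  intro hbad
  set K := H.subgroupOf N with hKdef
  haveI := lcs_normal (K := K) 1
  set e := K.index with hedef
  set S₀ := Inflate.layer K (K.lowerCentralSeries 1) with hS₀
  have hirr : ∀ ξ ∈ S₀, Cfsg.IsIrrCharacter N ξ := fun ξ h => isIrr (layer_subset le_rfl h)
  have hΘm : Θ ∈ Inflate.layer (K.lowerCentralSeries 1) ⊥ := by rw [hΘ]; exact Finset.mem_singleton_self _
  have hΘi : Cfsg.IsIrrCharacter N Θ := (mem_layer.1 hΘm).1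
  have hmS : ∀ ξ ∈ S₀, ξ ∈ Cfsg.zspan (↑S₀ : Set (N → ℂ)) := fun ξ h =>
    subset_zspan _ (Finset.mem_coe.2 h)
  have hsigned : ∀ ξ ∈ S₀, Cfsg.IsIrrCharacter G (T₁ ξ) ∨ Cfsg.IsIrrCharacter G (-T₁ ξ) := fun ξ h =>
    signed_of_norm_one (hT₁.2.2.2 _ (hmS ξ h))
      (by rw [hT₁.2.2.1 _ (hmS ξ h) _ (hmS ξ h), classInner_irr_eq (hirr ξ h) (hirr ξ h), if_pos rfl])
  obtain ⟨s, χ, hs, hg⟩ : ∃ (s : ℤ) (χ : Cfsg.IrrCharacter G), (s = 1 ∨ s = -1) ∧
      T₁ ψ = (s : ℂ) • (χ : G → ℂ) := by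
    rcases hsigned ψ hψ with h | h
    · exact ⟨1, ⟨_, h⟩, Or.inl rfl, by simp⟩
    · exact ⟨-1, ⟨_, h⟩, Or.inr rfl, by simp⟩
  set res : N → ℂ := fun m => (χ : G → ℂ) m with hres
  have hresc : Cfsg.IsCharacter N res :=
    Characters.Basic.isCharacter_comp N.subtype (Characters.Basic.isCharacter_irr χ)
  have hmult : ∀ φ : N → ℂ, ∃ m : ℕ, Cfsg.IsIrrCharacter N φ → Cfsg.classInner res φ = m := fun φ => by
    by_cases h : Cfsg.IsIrrCharacter N φ
    · obtain ⟨m, hm⟩ := Characters.Basic.exists_classInner_nat hresc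
        (Characters.Basic.IsCharacter_of_isIrrCharacter h)
      exact ⟨m, fun _ => hm⟩
    · exact ⟨0, fun h' => absurd h' h⟩
  choose μ hμ using hmult
  have hrec : ∀ α : N → ℂ,
      Cfsg.classInner (Cfsg.indFun N α) (χ : G → ℂ) = Cfsg.classInner α res := fun α =>
    Induced.Basic.frobenius_reciprocity N α (Characters.Basic.isClassFunction_irr χ)
  have hflip : ∀ φ, Cfsg.IsIrrCharacter N φ → Cfsg.classInner φ res = (μ φ : ℂ) := fun φ h => by
    rw [← classInner_conj_symm, hμ φ h, map_natCast]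
  have hss : s * s = 1 := by rcases hs with rfl | rfl <;> rfl
  -- parity at `Θ`
  have hΘodd : Odd (μ Θ) := by
    rw [hg, classInner_smul_right, map_intCast, hrec, classInner_sub_left, classInner_smul_left,
      hflip Θ hΘi, hflip ψ (hirr ψ hψ)] at hbad
    have h1 : s * ((μ Θ : ℤ) - ((e + 1 : ℕ) : ℤ) * μ ψ) = 1 - ((e + 1 : ℕ) : ℤ) := by
      exact_mod_cast hbad
    have h2 : Odd e := odd_index hCN hn he hX hZ hsq hcen hcount
    obtain ⟨k, hk⟩ := h2
    rw [← Int.odd_coe_nat]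
    rcases hs with rfl | rfl
    · exact ⟨(k + 1) * μ ψ - k - 1, by push_cast at h1 ⊢; rw [hk] at h1; push_cast at h1; linarith⟩
    · exact ⟨(k + 1) * μ ψ + k, by push_cast at h1 ⊢; rw [hk] at h1; push_cast at h1; linarith⟩
  -- differences
  have hdiff : ∀ ξ ∈ S₀, ξ - ψ ∈ Cfsg.zspanOn (↑S₀ : Set (N → ℂ)) {1}ᶜ := fun ξ h =>
    mem_zspanOn_one.2 ⟨Coherence.zspan_sub (hmS ξ h) (hmS ψ hψ), by
      rw [Pi.sub_apply, (mdeg_spec hCN (layer_subset le_rfl h)).1,
        (mdeg_spec hCN (layer_subset le_rfl hψ)).1, hdeg ξ h, hdeg ψ hψ, sub_self]⟩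
  have hTdiff : ∀ ξ ∈ S₀, Cfsg.indFun N (ξ - ψ) = T₁ ξ - T₁ ψ := fun ξ h => by
    rw [← hagree _ (hdiff ξ h), Criterion.span_iso_sub hT₁ (hmS ξ h) (hmS ψ hψ)]
  have hpair : ∀ ξ ∈ S₀, ξ ≠ ψ → (μ ξ : ℤ) - μ ψ = -s := by
    intro ξ h hne
    have horth : Cfsg.classInner (T₁ ξ) (χ : G → ℂ) = 0 := by
      have h0 := hT₁.2.2.1 _ (hmS ξ h) _ (hmS ψ hψ)
      rw [classInner_irr_eq (hirr ξ h) (hirr ψ hψ), if_neg hne, hg, classInner_smul_right,
        map_intCast] at h0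
      exact (mul_eq_zero.1 h0).resolve_left (Int.cast_ne_zero.2 (by rcases hs with rfl | rfl <;> simp))
    have h1 := hrec (ξ - ψ)
    rw [hTdiff ξ h, classInner_sub_left, horth, hg, classInner_smul_left,
      Characters.Basic.classInner_self_irr, mul_one, classInner_sub_left, hflip ξ (hirr ξ h),
      hflip ψ (hirr ψ hψ)] at h1
    have h2 : (((μ ξ : ℤ) - μ ψ : ℤ) : ℂ) = ((-s : ℤ) : ℂ) := by push_cast; linear_combination -h1
    exact_mod_cast h2
  -- indicators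
  have hlow : ∀ ξ ∈ S₀, (Nat.card N : ℂ)⁻¹ * ∑ x : N, ξ (x * x) = 1 := fun ξ h =>
    indicator_low hCN hn he hX hZ hsq hcen hcount h (hdeg ξ h)
  have htop := indicator_top hCN hn he hX hZ hsq hcen hcount hΘ hd
  have hreal : ∀ φ, Cfsg.IsIrrCharacter N φ →
      (Nat.card N : ℂ)⁻¹ * ∑ x : N, φ (x * x) ≠ 0 → ∀ x, (φ x).im = 0 := fun φ h h0 => by
    by_contra hn'
    exact h0 ((Characters.Indicator.indicator_spec ⟨φ, h⟩).2 hn')
  have hlowreal : ∀ ξ ∈ S₀, ∀ x, (ξ x).im = 0 := fun ξ h =>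
    hreal ξ (hirr ξ h) (by rw [hlow ξ h]; exact one_ne_zero)
  -- `χ` is real
  have hχreal : ∀ x, ((χ : G → ℂ) x).im = 0 := by
    set χ' : G → ℂ := Cfsg.conjFun (χ : G → ℂ) with hχ'
    have hχ'i : Cfsg.IsIrrCharacter G χ' := conjFun_irr χ.2
    by_contra hnr
    have hne : χ' ≠ (χ : G → ℂ) := fun h => hnr fun x =>
      Complex.conj_eq_iff_im.1 (congrFun h x)
    have hχ0 : Cfsg.classInner (χ : G → ℂ) χ' = 0 := by
      rw [classInner_irr_eq χ.2 hχ'i, if_neg hne.symm]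
    have hT : ∀ ξ ∈ S₀, ξ ≠ ψ → T₁ ξ = χ' ∨ T₁ ξ = -χ' := by
      intro ξ h hξ
      have hreal' : Cfsg.conjFun (ξ - ψ) = ξ - ψ := funext fun x => by
        show conj (ξ x - ψ x) = ξ x - ψ x
        rw [map_sub, Complex.conj_eq_iff_im.2 (hlowreal ξ h x),
          Complex.conj_eq_iff_im.2 (hlowreal ψ hψ x)]
      have h1 : Cfsg.classInner (Cfsg.indFun N (ξ - ψ)) χ' = (((μ ξ : ℤ) - μ ψ : ℤ) : ℂ) := by
        rw [Induced.Basic.frobenius_reciprocity N _
          (Characters.Basic.isClassFunction_irr ⟨χ', hχ'i⟩),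
          show (fun m : N => χ' m) = Cfsg.conjFun res from rfl, ← hreal', classInner_conjFun,
          classInner_sub_left, hflip ξ (hirr ξ h), hflip ψ (hirr ψ hψ)]
        simp
      rw [hTdiff ξ h, classInner_sub_left, hg, classInner_smul_left, hχ0, mul_zero, sub_zero,
        hpair ξ h hξ] at h1
      rcases hsigned ξ h with h2 | h2
      · rw [classInner_irr_eq h2 hχ'i] at h1
        by_cases h3 : T₁ ξ = χ'
        · exact Or.inl h3
        · rw [if_neg h3] at h1; rcases hs with rfl | rfl <;> norm_num at h1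
      · have h4 := classInner_irr_eq h2 hχ'i
        rw [classInner_neg_left, h1] at h4
        by_cases h3 : -T₁ ξ = χ'
        · exact Or.inr (by rw [← h3, neg_neg])
        · rw [if_neg h3] at h4; rcases hs with rfl | rfl <;> norm_num at h4
    obtain ⟨ξ₁, hξ₁, hξ₁ψ, ξ₂, hξ₂, hξ₂ψ, h12⟩ : ∃ ξ₁ ∈ S₀, ξ₁ ≠ ψ ∧ ∃ ξ₂ ∈ S₀, ξ₂ ≠ ψ ∧ ξ₁ ≠ ξ₂ := by
      obtain ⟨ξ₁, h1, ξ₂, h2, h12⟩ := Finset.one_lt_card.1 (show 1 < (S₀.erase ψ).card by
        rw [Finset.card_erase_of_mem hψ]; omega)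
      rw [Finset.mem_erase] at h1 h2
      exact ⟨ξ₁, h1.2, h1.1, ξ₂, h2.2, h2.1, h12⟩
    have h0 := hT₁.2.2.1 _ (hmS ξ₁ hξ₁) _ (hmS ξ₂ hξ₂)
    rw [classInner_irr_eq (hirr ξ₁ hξ₁) (hirr ξ₂ hξ₂), if_neg h12] at h0
    rcases hT ξ₁ hξ₁ hξ₁ψ with h3 | h3 <;> rcases hT ξ₂ hξ₂ hξ₂ψ with h4 | h4 <;>
      simp [h3, h4, classInner_neg_left, classInner_neg_right, classInner_irr_eq hχ'i hχ'i] at h0
  -- an odd multiplicity among the low characters
  obtain ⟨φ, hφ, hφodd⟩ : ∃ φ ∈ S₀, Odd (μ φ) := by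
    by_contra! hall
    obtain ⟨ξ, h1, h2⟩ := Finset.exists_mem_ne (show 1 < S₀.card by omega) ψ
    have := hpair ξ h1 h2
    obtain ⟨a, ha⟩ := Nat.not_odd_iff_even.1 (hall ξ h1)
    obtain ⟨b, hb⟩ := Nat.not_odd_iff_even.1 (hall ψ hψ)
    rcases hs with rfl | rfl <;> omega
  have e1 := Parity.indicator_mul_eq_one χ ⟨φ, hirr φ hφ⟩ N.subtype hχreal (hlowreal φ hφ)
    (hμ φ (hirr φ hφ)) hφodd
  have e2 := Parity.indicator_mul_eq_one χ ⟨Θ, hΘi⟩ N.subtype hχreal
    (hreal Θ hΘi (by rw [htop]; norm_num)) (hμ Θ hΘi) hΘodd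
  simp only [hlow φ hφ, htop, mul_one, mul_neg] at e1 e2
  rw [e1] at e2
  norm_num at e2

/-- The kernel characters of an exceptional kernel are coherent. -/
theorem coherent :
    Cfsg.IsCoherent (↑(Inflate.layer (H.subgroupOf N) ⊥) : Set (N → ℂ)) {1}ᶜ (Cfsg.indFun N) := by
  set K := H.subgroupOf N with hKdef
  haveI := lcs_normal (K := K) 1
  set Z := K.lowerCentralSeries 1 with hZdef
  set e := K.index with hedef
  have hK1 : Z < K := lt_of_le_of_ne (lcs_le 1) fun h => by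
    have := hX
    rw [h, Subgroup.relIndex_self] at this
    nlinarith
  have hτ := Isometry.SibleyOdd.ind_isometry hTI hCN
  have hτ1 : ∀ α ∈ Cfsg.zspanOn (↑(Inflate.layer K ⊥) : Set (N → ℂ)) {1}ᶜ, Cfsg.indFun N α 1 = 0 :=
    fun a ha => Isometry.FrobeniusTI.indFun_one_eq_zero (mem_zspanOn_one.1 ha).2
  obtain ⟨hbase, hdeg⟩ := Isometry.FeitCoherence.coherent_derived hCN hτ hτ1 hK1
    (by rw [hX]; nlinarith)
  have hcard : (Inflate.layer K Z).card = e + 2 := by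
    have h := Isometry.FeitCoherence.sum_mdeg_layer hCN Z hK1.le
    rw [Finset.sum_congr rfl fun χ hχ => by rw [hdeg χ hχ, one_pow], Finset.sum_const,
      smul_eq_mul, mul_one, hX, ← hedef] at h
    have h' : e * (Inflate.layer K Z).card = e * (e + 2) := by
      have : (e + 1) ^ 2 = e * (e + 2) + 1 := by ring
      omega
    exact Nat.eq_of_mul_eq_mul_left (by omega) h'
  have hsum : ∑ χ ∈ Inflate.layer Z ⊥, mdeg K χ ^ 2 = (e + 1) ^ 2 := by
    have h := sum_mdeg hCN (bot_le : (⊥ : Subgroup N) ≤ Z) hK1.le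
    rw [hX, Subgroup.relIndex_bot_left, card_kernel hCN hn he hX hZ hsq hcen hcount,
      ← hedef] at h
    have h' : e * ∑ χ ∈ Inflate.layer Z ⊥, mdeg K χ ^ 2 = e * (e + 1) ^ 2 := by
      have : (e + 1) ^ 3 = e * (e + 1) ^ 2 + (e + 1) ^ 2 := by ring
      omega
    exact Nat.eq_of_mul_eq_mul_left (by omega) h'
  have hsplit : Inflate.layer K ⊥ = Inflate.layer K Z ∪ Inflate.layer Z ⊥ := by
    ext χ
    simp only [Finset.mem_union, mem_layer]
    constructor
    · rintro ⟨h1, h2, h3⟩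
      by_cases h : ∀ g ∈ Z, χ g = χ 1
      · exact Or.inl ⟨h1, h, h3⟩
      · push Not at h; exact Or.inr ⟨h1, h2, h⟩
    · rintro (⟨h1, h2, h3⟩ | ⟨h1, h2, g, hg, h3⟩)
      · exact ⟨h1, fun g hg => by rw [Subgroup.mem_bot.1 hg], h3⟩
      · exact ⟨h1, h2, g, hK1.le hg, h3⟩
  have hdisj : ∀ χ ∈ Inflate.layer Z ⊥, χ ∉ Inflate.layer K Z := fun χ h h' => by
    obtain ⟨g, hg, hne⟩ := (mem_layer.1 h).2.2
    exact hne ((mem_layer.1 h').2.1 g hg)
  obtain ⟨ψ, hψ⟩ := layer_nonempty (A := K) (B := Z) hK1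
  have hpow : ∀ χ ∈ Inflate.layer Z ⊥, ∃ i, mdeg K χ = 2 ^ i ∧ i ≤ n := by
    intro χ hχ
    have hc : Nat.card K = 2 ^ (n * 3) := by
      rw [card_kernel hCN hn he hX hZ hsq hcen hcount, hn, ← pow_mul]
    obtain ⟨i, hi⟩ := mdeg_eq_pow hCN Nat.prime_two hc (layer_subset hK1.le hχ)
    refine ⟨i, hi, ?_⟩
    have h1 : mdeg K χ ^ 2 ≤ (e + 1) ^ 2 := hX ▸ mdeg_sq_le hCN bot_le hK1.le (by
      rw [Subgroup.commutator_le]
      intro z hz k hk
      rw [Subgroup.mem_bot, commutatorElement_eq_one_iff_mul_comm]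
      exact hcen z hz k hk) hχ
    rw [hi, hn] at h1
    exact (Nat.pow_le_pow_iff_right one_lt_two).1 ((Nat.pow_le_pow_iff_left two_ne_zero).1 h1)
  have hmono : ∀ S : Finset (N → ℂ), S ⊆ Inflate.layer K ⊥ →
      Cfsg.IsLinearIsometryOn (Cfsg.zspanOn (↑S : Set (N → ℂ)) {1}ᶜ) (Cfsg.indFun N) ∧
      ∀ α ∈ Cfsg.zspanOn (↑S : Set (N → ℂ)) {1}ᶜ, Cfsg.indFun N α 1 = 0 := fun S h =>
    ⟨Isometry.FeitCoherence.isometry_mono (Finset.coe_subset.2 h) hτ,
      fun α hα => hτ1 α (zspanOn_mono _ (Finset.coe_subset.2 h) hα)⟩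
  by_cases hbig : ∀ χ ∈ Inflate.layer Z ⊥, mdeg K χ < e + 1
  · suffices h : ∀ T : Finset (N → ℂ), T ⊆ Inflate.layer Z ⊥ →
        Cfsg.IsCoherent (↑(Inflate.layer K Z ∪ T) : Set (N → ℂ)) {1}ᶜ (Cfsg.indFun N) by
      rw [hsplit]; exact h _ Finset.Subset.rfl
    intro T
    induction T using Finset.induction_on with
    | empty => intro _; rw [Finset.union_empty]; exact hbase
    | @insert χ T hχT ih =>
      intro hT
      rw [Finset.insert_subset_iff] at hT
      have hall : insert χ (Inflate.layer K Z ∪ T) ⊆ Inflate.layer K ⊥ := by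
        rw [hsplit]
        exact Finset.insert_subset (Finset.mem_union_right _ hT.1)
          (Finset.union_subset Finset.subset_union_left (hT.2.trans Finset.subset_union_right))
      have hall' : ∀ ξ ∈ Inflate.layer K Z ∪ T, ξ ∈ Inflate.layer K ⊥ := fun ξ h =>
        hall (Finset.mem_insert_of_mem h)
      rw [Finset.union_insert]
      refine Isometry.Feit.coherent_insert _ χ (fun ξ h => isIrr (hall' ξ h))
        (isIrr (hall (Finset.mem_insert_self _ _))) (by simp [hdisj χ hT.1, hχT])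
        (fun ξ => e * mdeg K ξ) (fun ξ h => (mdeg_spec hCN (hall h)).1) (Cfsg.indFun N)
        (hmono _ hall).1 (hmono _ hall).2 (ih hT.2) ψ (Finset.mem_union_left _ hψ) ?_ ?_
      · rw [hdeg ψ hψ, mul_one]; exact dvd_mul_right _ _
      · obtain ⟨i, hi, -⟩ := hpow χ hT.1
        have hlt := hbig χ hT.1
        rw [hi, hn] at hlt
        have hi' : i + 1 ≤ n := (Nat.pow_lt_pow_iff_right one_lt_two).1 hlt
        have h2 : 2 * mdeg K χ ≤ e + 1 := by
          rw [hi, hn, ← pow_succ']; exact Nat.pow_le_pow_right (by norm_num) hi'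
        have h3 : ∑ ξ ∈ Inflate.layer K Z, (e * mdeg K ξ) ^ 2 ≤ ∑ ξ ∈ Inflate.layer K Z ∪ T, (e * mdeg K ξ) ^ 2 :=
          Finset.sum_le_sum_of_subset Finset.subset_union_left
        refine lt_of_lt_of_le ?_ h3
        rw [Finset.sum_congr rfl fun ξ h => by rw [hdeg ξ h, mul_one], Finset.sum_const, hcard,
          smul_eq_mul, hdeg ψ hψ, mul_one]
        nlinarith
  · push Not at hbig
    obtain ⟨Θ, hΘ, hΘbig⟩ := hbig
    have hd : mdeg K Θ = e + 1 := by
      refine le_antisymm ?_ hΘbig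
      obtain ⟨i, hi, hin⟩ := hpow Θ hΘ
      rw [hi, hn]; exact Nat.pow_le_pow_right (by norm_num) hin
    have hsing : Inflate.layer Z ⊥ = {Θ} := by
      refine Finset.eq_singleton_iff_unique_mem.2 ⟨hΘ, fun χ hχ => ?_⟩
      by_contra hne
      rw [← Finset.add_sum_erase _ _ hΘ, hd] at hsum
      have h1 := Finset.single_le_sum (f := fun ξ => mdeg K ξ ^ 2) (fun _ _ => Nat.zero_le _)
        (Finset.mem_erase.2 ⟨hne, hχ⟩)
      have h2 : 1 ≤ mdeg K χ ^ 2 := Nat.one_le_pow _ _ (mdeg_spec hCN (layer_subset hK1.le hχ)).2.1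
      omega
    have hins : Inflate.layer K ⊥ = insert Θ (Inflate.layer K Z) := by
      rw [hsplit, hsing, Finset.union_comm, ← Finset.insert_eq]
    rw [hins]
    refine Insert.coherent_insert _ Θ (fun ξ h => isIrr (layer_subset le_rfl h))
      (mem_layer.1 hΘ).1 (hdisj Θ hΘ) (fun ξ => e * mdeg K ξ)
      (fun ξ h => (mdeg_spec hCN (hins.symm ▸ h : ξ ∈ Inflate.layer K ⊥)).1) (Cfsg.indFun N)
      (hmono _ hins.ge).1 (hmono _ hins.ge).2 hbase ψ hψ (e + 1) ?_ ?_ ?_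
    · rw [hd, hdeg ψ hψ, mul_one]
    · intro b hb
      rw [Finset.sum_congr rfl fun ξ h => by rw [hdeg ξ h, mul_one], Finset.sum_const, hcard,
        nsmul_eq_mul, hdeg ψ hψ, mul_one] at hb
      push_cast at hb
      have he2 : (0 : ℤ) < (e : ℤ) ^ 2 := by positivity
      have h1 : b ^ 2 * ((e : ℤ) + 2) ≤ 2 * ((e : ℤ) + 1) * b + 1 := by
        refine le_of_mul_le_mul_right ?_ he2
        linarith
      have he3 : (3 : ℤ) ≤ e := by exact_mod_cast he
      by_contra hne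
      push Not at hne
      rcases (by omega : b ≤ -1 ∨ 2 ≤ b) with h | h
      · nlinarith [mul_nonneg (sq_nonneg b) (show (0 : ℤ) ≤ e by linarith)]
      · nlinarith [mul_nonneg (mul_nonneg (show (0 : ℤ) ≤ b - 2 by linarith) (show (0 : ℤ) ≤ b by linarith)) (show (0 : ℤ) ≤ e + 2 by linarith)]
    · exact fun T₁ h1 h2 =>
        excluded hTI hCN hn he hX hZ hsq hcen hcount hψ hdeg hcard hsing hd T₁ h1 h2

end Cfsg.Agent.Lib.TICen.Exceptional
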