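import Cfsg.Agent.Lib.TICen.Even
import Cfsg.Agent.Lib.TICen.Exceptional
import Cfsg.Agent.Lib.Zassenhaus.CoherentChars
import Cfsg.Agent.Lib.Isometry.NormalizerBridge

/-!
# Involution centralisers are abelian

In a non-solvable group with TI centralisers the centraliser of an involution is abelian.
-/

set_option autoImplicit false
set_option linter.unusedSectionVars false

namespace Cfsg.Agent.Lib.TICen.Kernel

open Subgroup Cfsg.Agent.Lib.TICen.Basic
open Cfsg.Agent.Lib.Involutions.Basic Cfsg.Agent.Lib.Involutions.StronglyEmbedded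
open Cfsg.Agent.Lib

universe u

variable {G : Type u} [Group G] [Fintype G]

/-- An involution centraliser in a non-solvable group with TI centralisers is abelian. -/
theorem comm_centralizer (h : TICen G) (hns : ¬ Group.IsSolvable G) {t₀ : G} (ht₀ : orderOf t₀ = 2) :
    ∀ a ∈ centralizer ({t₀} : Set G), ∀ b ∈ centralizer ({t₀} : Set G), a * b = b * a := by
  classical
  obtain ⟨S, hS⟩ := (IsPGroup.of_card (p := 2) (n := 1)
    (by rw [Nat.card_zpowers, ht₀, pow_one] : Nat.card (zpowers t₀) = 2 ^ 1)).exists_le_sylow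
  have ht₀S : t₀ ∈ S := hS (mem_zpowers t₀)
  set K := centralizer ({t₀} : Set G) with hKdef
  have htK : t₀ ∈ K := self_mem t₀
  have hSE := Even.strongly_embedded h hns S
  have hM : normalizer (K : Set G) = normalizer ((S : Subgroup G) : Set G) :=
    Even.normalizer_eq h hns S ht₀ ht₀S
  have hSK : (S : Subgroup G) ≤ K := fun g hg =>
    mem_centralizer_singleton_iff.2 (Even.invol_central h hns S ht₀ ht₀S g hg)
  have hinvK : ∀ v ∈ K, orderOf v = 2 → v ∈ S := fun v hv hv2 =>
    Even.invol_mem h hns S hv2 (hM ▸ le_normalizer hv)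
  have hcenK : ∀ v ∈ K, v * v = 1 → ∀ x ∈ K, x * v = v * x := by
    intro v hv hvv x hx
    by_cases hv1 : v = 1
    · simp [hv1]
    have hv2 : orderOf v = 2 := invol_iff.2 ⟨hvv, hv1⟩
    have := Even.centralizer_eq h hns S hv2 (hinvK v hv hv2) ht₀ ht₀S
    exact mem_centralizer_singleton_iff.1 (this.symm ▸ hx : x ∈ centralizer ({v} : Set G))
  have hC : ∀ k ∈ K, k ≠ 1 → centralizer ({k} : Set G) ≤ K := fun k hk hk1 =>
    Even.centralizer_le_K h hns S ht₀ ht₀S hk hk1
  have hTI : ∀ g : G, g ∉ normalizer (K : Set G) → ∀ k ∈ K, g * k * g⁻¹ ∈ K → k = 1 :=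
    fun g hg k hk hgk => h t₀ g hg k hk hgk
  have hconjM : ∀ v ∈ K, v * v = 1 → v ≠ 1 → ∃ g ∈ normalizer (K : Set G), g * t₀ * g⁻¹ = v := by
    intro v hv hvv hv1
    have hv2 : orderOf v = 2 := invol_iff.2 ⟨hvv, hv1⟩
    obtain ⟨g, hg⟩ := isConj_iff.1 (isConj_involutions hSE ht₀ hv2)
    refine ⟨g, ?_, hg⟩
    rw [hM]
    exact mem_of_conj_mem hSE ht₀ (le_normalizer ht₀S) (le_normalizer (hg.symm ▸ hinvK v hv hv2 :
      g * t₀ * g⁻¹ ∈ (S : Subgroup G)))
  obtain ⟨s₁, s₂, hs12, hs₁, hs₂, hs₁S, hs₂S⟩ := Even.exists_two h hns S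
  have hlt : K < normalizer (K : Set G) := by
    refine lt_of_le_of_ne le_normalizer fun heq => hs12 ?_
    have hall : ∀ v ∈ K, v * v = 1 → v ≠ 1 → v = t₀ := by
      intro v hv hvv hv1
      obtain ⟨g, hg, hgv⟩ := hconjM v hv hvv hv1
      rw [← heq] at hg
      rw [← hgv, mem_centralizer_singleton_iff.1 hg, mul_inv_cancel_right]
    rw [hall s₁ (hSK hs₁S) (invol_mul_self hs₁) (invol_ne_one hs₁),
      hall s₂ (hSK hs₂S) (invol_mul_self hs₂) (invol_ne_one hs₂)]
  set L := normalizer (K : Set G) with hLdef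
  set K' := K.subgroupOf L with hK'def
  have : K'.Normal := normal_in_normalizer
  -- the involutions of `K`
  let J := {v : G // v ∈ K ∧ v * v = 1 ∧ v ≠ 1}
  have hclass : Nat.card J = K'.index := by
    let f : L → J := fun g => ⟨(g : G) * t₀ * (g : G)⁻¹, (mem_normalizer_iff.1 g.2 t₀).1 htK,
      invol_mul_self ((orderOf_conj_eq (g : G) t₀).trans ht₀),
      invol_ne_one ((orderOf_conj_eq (g : G) t₀).trans ht₀)⟩
    have hf : ∀ g g' : L, f g = f g' ↔ g⁻¹ * g' ∈ K' := by
      intro g g'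
      rw [hK'def, mem_subgroupOf, hKdef, mem_centralizer_singleton_iff, Subtype.ext_iff]
      simp only [f, coe_mul, coe_inv]
      constructor
      · intro e
        calc (g : G)⁻¹ * g' * t₀ = (g : G)⁻¹ * ((g' : G) * t₀ * (g' : G)⁻¹) * g' := by group
          _ = (g : G)⁻¹ * ((g : G) * t₀ * (g : G)⁻¹) * g' := by rw [e]
          _ = _ := by group
      · intro e
        calc (g : G) * t₀ * (g : G)⁻¹ = (g : G) * (t₀ * ((g : G)⁻¹ * g')) * (g' : G)⁻¹ := by group
          _ = (g : G) * ((g : G)⁻¹ * g' * t₀) * (g' : G)⁻¹ := by rw [e]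
          _ = _ := by group
    rw [index]
    refine (Nat.card_eq_of_bijective (Quotient.lift f fun a b hab =>
      (hf a b).2 (QuotientGroup.leftRel_apply.1 hab)) ⟨?_, ?_⟩).symm
    · intro a b
      induction a using Quotient.inductionOn with
      | h a =>
        induction b using Quotient.inductionOn with
        | h b => exact fun e => Quotient.sound (QuotientGroup.leftRel_apply.2 ((hf a b).1 e))
    · rintro ⟨v, hv, hvv, hv1⟩
      obtain ⟨g, hg, hgv⟩ := hconjM v hv hvv hv1
      exact ⟨Quotient.mk _ ⟨g, hg⟩, Subtype.ext hgv⟩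
  -- the elements of square one
  let Ω : Subgroup G :=
    { carrier := {v | v ∈ K ∧ v * v = 1}
      one_mem' := ⟨one_mem _, one_mul 1⟩
      inv_mem' := fun {v} hv => ⟨inv_mem hv.1, by rw [← mul_inv_rev, hv.2, inv_one]⟩
      mul_mem' := fun {v w} hv hw => ⟨mul_mem hv.1 hw.1, by
        rw [mul_assoc, ← mul_assoc w, ← hcenK v hv.1 hv.2 w hw.1 |>.symm, mul_assoc v w, hw.2, mul_one,
          hv.2]⟩ }
  have hΩcard : Nat.card Ω = K'.index + 1 := by
    rw [← hclass]
    show Nat.card {v : G // v ∈ K ∧ v * v = 1} = Nat.card J + 1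
    rw [Nat.card_eq_fintype_card, Nat.card_eq_fintype_card, Fintype.card_subtype,
      Fintype.card_subtype]
    have heq : Finset.univ.filter (fun v : G => v ∈ K ∧ v * v = 1 ∧ v ≠ 1) =
        (Finset.univ.filter fun v : G => v ∈ K ∧ v * v = 1).erase 1 := by
      ext v; simp; tauto
    rw [heq, Finset.card_erase_add_one]
    simp
  obtain ⟨n, hn⟩ : ∃ n, K'.index + 1 = 2 ^ n := by
    have : IsPGroup 2 Ω := fun v => ⟨1, Subtype.ext (by rw [pow_one, pow_two]; exact v.2.2)⟩
    obtain ⟨n, hn⟩ := IsPGroup.iff_card.1 this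
    exact ⟨n, hΩcard ▸ hn⟩
  have he : 3 ≤ K'.index := by
    have h2 : 2 ≤ K'.index := by
      rw [← hclass]
      have : Nontrivial J := ⟨⟨s₁, hSK hs₁S, invol_mul_self hs₁, invol_ne_one hs₁⟩,
        ⟨s₂, hSK hs₂S, invol_mul_self hs₂, invol_ne_one hs₂⟩,
        fun e => hs12 (congrArg Subtype.val e)⟩
      exact Finite.one_lt_card
    rcases n with _ | _ | m
    · rw [pow_zero] at hn; omega
    · rw [zero_add, pow_one] at hn; omega
    · have : 2 ^ (m + 1 + 1) = 4 * 2 ^ m := by ring
      have := Nat.one_le_two_pow (n := m)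
      omega
  have hC' := Isometry.NormalizerBridge.centralizer_le K hC
  have hK0 : K ≠ ⊥ := fun e => invol_ne_one ht₀ (mem_bot.1 (e ▸ htK))
  have hKcard : Nat.card K' = Nat.card K := Isometry.NormalizerBridge.card_eq K
  rcases Classical.em (∀ a ∈ K, ∀ b ∈ K, a * b = b * a) with hab | hab
  · exact hab
  exfalso
  have hab' : ¬ ∀ a ∈ K', ∀ b ∈ K', a * b = b * a := fun h' => hab fun a ha b hb =>
    congrArg Subtype.val (h' ⟨a, le_normalizer ha⟩ ha ⟨b, le_normalizer hb⟩ hb)
  have hcoh : Cfsg.IsCoherent (↑(Isometry.Inflate.layer K' ⊥) : Set (L → ℂ)) {1}ᶜ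
      (Cfsg.indFun L) := by
    rcases Isometry.TINilpotent.dichotomy le_normalizer hTI hC'
        (Isometry.NormalizerBridge.ne_bot K hK0) (Isometry.NormalizerBridge.ne_top K hlt) with
      ⟨-, -, p, -, hp⟩ | ⟨⟨m, hm⟩, -, hsmall⟩ | hcoh
    · exact absurd (fun a ha b hb => congrArg Subtype.val (hp.1.is_comm.comm ⟨a, ha⟩ ⟨b, hb⟩)) hab'
    · have hcount : Nat.card {v : L // v ∈ K' ∧ v * v = 1} = K'.index + 1 := by
        rw [← hΩcard]
        refine Nat.card_congr
          { toFun := fun v => ⟨(v.1 : G), v.2.1, congrArg Subtype.val v.2.2⟩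
            invFun := fun v => ⟨⟨(v : G), le_normalizer v.2.1⟩, v.2.1, Subtype.ext v.2.2⟩
            left_inv := fun v => rfl
            right_inv := fun v => rfl }
      have hnorm : ∀ x ∈ K', x ≠ 1 → (centralizer ({x} : Set L)).Normal := by
        intro x hx hx1
        refine ⟨fun y hy g => ?_⟩
        rw [mem_centralizer_singleton_iff, Subtype.ext_iff, coe_mul, coe_mul]
        have hcx : ∀ v ∈ K, v * v = 1 → v ∈ centralizer ({(x : G)} : Set G) := fun v hv hvv =>
          mem_centralizer_singleton_iff.2 (hcenK v hv hvv _ hx).symm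
        set a := (g : G)⁻¹ * t₀ * g with hadef
        have haK : a ∈ K := (mem_normalizer_iff''.1 g.2 t₀).1 htK
        have ha2 : orderOf a = 2 := by
          have := (orderOf_conj_eq ((g : G)⁻¹) t₀).trans ht₀
          rwa [inv_inv] at this
        have hgn := mem_normalizer h (g := (g : G)) (hcx a haK (invol_mul_self ha2))
          (by rw [hadef, show (g : G) * ((g : G)⁻¹ * t₀ * g) * (g : G)⁻¹ = t₀ by group]
              exact hcx t₀ htK (invol_mul_self ht₀)) (invol_ne_one ha2)
        have hy' : (y : G) ∈ centralizer ({(x : G)} : Set G) :=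
          mem_centralizer_singleton_iff.2 (congrArg Subtype.val (mem_centralizer_singleton_iff.1 hy))
        simpa [mem_centralizer_singleton_iff] using (mem_normalizer_iff.1 hgn _).1 hy'
      obtain ⟨hX, hZ, hsq, -, hcen⟩ := Structure.structure_of_small hC' (IsPGroup.of_card hm) hn he
        hcount hnorm hab' hsmall
      exact Exceptional.coherent hTI hC' hn he hX hZ hsq hcen hcount
    · exact hcoh
  rw [← Isometry.NormalizerBridge.setOf_eq_layer K] at hcoh
  obtain ⟨E⟩ : Nonempty (Zassenhaus.CoherentChars.Exc K) := by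
    refine Zassenhaus.CoherentChars.exists_exc K hTI hlt hC ?_ hcoh
    obtain ⟨⟨α, hα, hα0⟩, -⟩ := hcoh
    by_contra! hall
    obtain ⟨hαs, hα1⟩ := Isometry.Inner.mem_zspanOn_one.1 hα
    change α ∈ Cfsg.zspan (Zassenhaus.CoherentChars.relSet K) at hαs
    rcases Set.eq_empty_or_nonempty (Zassenhaus.CoherentChars.relSet K) with h' | ⟨χ₀, hχ₀⟩
    · refine hα0 ?_
      rw [h'] at hαs
      simpa [Cfsg.zspan] using hαs
    have hsing : ∀ γ ∈ Cfsg.zspan (Zassenhaus.CoherentChars.relSet K), ∃ k : ℤ, γ = (k : ℂ) • χ₀ := by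
      intro γ hγ
      induction hγ using Submodule.span_induction with
      | mem x hx => exact ⟨1, by rw [hall x hx χ₀ hχ₀]; simp⟩
      | zero => exact ⟨0, by simp⟩
      | add x y _ _ ihx ihy =>
        obtain ⟨k, rfl⟩ := ihx
        obtain ⟨l, rfl⟩ := ihy
        exact ⟨k + l, by push_cast; rw [add_smul]⟩
      | smul m x _ ih =>
        obtain ⟨k, rfl⟩ := ih
        exact ⟨m * k, by rw [Int.cast_mul, mul_smul, Int.cast_smul_eq_zsmul ℂ m]⟩
    obtain ⟨k, rfl⟩ := hsing α hαs
    simp only [Pi.smul_apply, smul_eq_mul, mul_eq_zero] at hα1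
    rcases hα1 with hk | hk
    · exact hα0 (by rw [hk, zero_smul])
    · exact Isometry.Inner.apply_one_ne_zero_of_signed (Or.inl hχ₀.1) hk
  -- the numerical hypotheses
  have hbigK : (K'.index + 1) ^ 2 ≤ Nat.card K := by
    have hΩK : Ω ≤ K := fun v hv => hv.1
    have hΩn : (Ω.subgroupOf L).Normal := ⟨fun v hv g => by
      refine ⟨(mem_normalizer_iff.1 g.2 _).1 hv.1, ?_⟩
      show (g : G) * (v : G) * (g : G)⁻¹ * ((g : G) * (v : G) * (g : G)⁻¹) = 1
      calc _ = (g : G) * ((v : G) * v) * (g : G)⁻¹ := by group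
        _ = 1 := by rw [show (v : G) * v = 1 from hv.2, mul_one, mul_inv_cancel]⟩
    have hmod := Isometry.Layers.relIndex_modEq hC' (Ω.subgroupOf L) (comap_mono hΩK)
    rw [relIndex_subgroupOf le_normalizer] at hmod
    have hmul : Nat.card Ω * Ω.relIndex K = Nat.card K := by
      have := relIndex_mul_relIndex ⊥ Ω K bot_le hΩK
      rwa [relIndex_bot_left, relIndex_bot_left] at this
    have hne : Ω.relIndex K ≠ 1 := fun e => hab fun a ha b hb =>
      hcenK b hb ((relIndex_eq_one.1 e hb).2) a ha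
    have hpos : 0 < Ω.relIndex K := Nat.pos_of_ne_zero fun e => by
      rw [e, mul_zero] at hmul; exact Nat.card_pos.ne hmul
    have hge := Nat.le_of_dvd (by omega) ((Nat.modEq_iff_dvd' hpos).1 hmod.symm)
    rw [← hmul, hΩcard, pow_two]
    refine Nat.mul_le_mul le_rfl ?_
    change K'.index ≤ _ at hge
    omega
  have hbigG : K'.index * Nat.card K ^ 2 ≤ Nat.card G := by
    obtain ⟨g, -, hg⟩ := SetLike.exists_of_lt (lt_top_iff_ne_top.2 hSE.1)
    set u := g * t₀ * g⁻¹ with hudef
    have hu : orderOf u = 2 := (orderOf_conj_eq g t₀).trans ht₀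
    have huM : u ∉ L := fun hu' => hg (mem_of_conj_mem hSE ht₀ (le_normalizer ht₀S) (hM ▸ hu'))
    have hinj : Nat.card K ≤ L.index := by
      refine Nat.card_le_card_of_injective (fun k : K => (((k : G) * u : G) : G ⧸ L)) fun k k' hk => ?_
      have hmem : ((k : G) * u)⁻¹ * ((k' : G) * u) ∈ L := QuotientGroup.eq.1 hk
      set c := (k : G)⁻¹ * k' with hcdef
      have hcK : c ∈ K := mul_mem (inv_mem k.2) k'.2
      have hcL : u * c * u⁻¹ ∈ L := by
        convert hmem using 1
        rw [invol_inv hu, hcdef, mul_inv_rev, invol_inv hu]; group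
      by_contra hne
      have hc1 : c ≠ 1 := fun e => hne (Subtype.ext (inv_mul_eq_one.1 e))
      have hcop := Isometry.Layers.coprime_index hC'
      rw [hKcard] at hcop
      have hd1 : orderOf (QuotientGroup.mk' K' ⟨u * c * u⁻¹, hcL⟩) ∣ Nat.card K := by
        refine (orderOf_map_dvd _ _).trans ?_
        rw [orderOf_mk, orderOf_conj_eq]
        exact Subgroup.orderOf_dvd_natCard K hcK
      have hd2 : orderOf (QuotientGroup.mk' K' ⟨u * c * u⁻¹, hcL⟩) ∣ K'.index :=
        orderOf_dvd_natCard _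
      have h1 := Nat.eq_one_of_dvd_coprimes hcop hd2 hd1
      rw [orderOf_eq_one_iff] at h1
      have hcK' : u * c * u⁻¹ ∈ K := (QuotientGroup.eq_one_iff (⟨u * c * u⁻¹, hcL⟩ : L)).1 h1
      exact hc1 (hTI u huM c hcK hcK')
    have hL : Nat.card K * K'.index = Nat.card L := by
      rw [← hKcard]; exact K'.card_mul_index
    calc K'.index * Nat.card K ^ 2 = (Nat.card K * K'.index) * Nat.card K := by ring
      _ ≤ Nat.card L * L.index := by rw [hL]; exact Nat.mul_le_mul_left _ hinj
      _ = Nat.card G := L.card_mul_index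
  have hall := Zassenhaus.CoherentChars.involutions_only K hTI hlt hC E htK ht₀ he hbigK hbigG hclass
    (fun v hv hvv hv1 => by
      obtain ⟨g, hg, hgv⟩ := hconjM v hv hvv hv1
      exact ⟨⟨g, hg⟩, hgv⟩) hcenK
    (fun a b hab hne => by
      set X := a * t₀ * a⁻¹ with hXdef
      set Y := b * t₀ * b⁻¹ with hYdef
      have hX : orderOf X = 2 := (orderOf_conj_eq a t₀).trans ht₀
      have hY : orderOf Y = 2 := (orderOf_conj_eq b t₀).trans ht₀
      clear_value X Y
      have hXM : X ∈ L := by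
        by_contra hX'
        refine hne (hTI X hX' _ hab ?_)
        have : X * (X * Y) * X⁻¹ = (X * Y)⁻¹ := by
          rw [mul_inv_rev X Y, invol_inv hY, invol_inv hX, ← mul_assoc, invol_mul_self hX, one_mul]
        rw [this]
        exact inv_mem hab
      have hXK : X ∈ K := hSK (Even.invol_mem h hns S hX (hM ▸ hXM))
      refine ⟨hXK, ?_⟩
      have := mul_mem hXK hab
      rwa [← mul_assoc, invol_mul_self hX, one_mul] at this)
  exact hab fun a ha b hb => (hcenK a ha (hall a ha) b hb).symm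

end Cfsg.Agent.Lib.TICen.Kernel
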