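import Cfsg.Agent.Lib.Chars82.FixedSpaceIndicator
import Cfsg.Agent.Lib.Characters.Basic

/-!
# Odd multiplicities between real characters

If a real irreducible character of `G` restricted along a homomorphism `M → G` contains a real
irreducible character of `M` an odd number of times, the two indicators agree.
-/

set_option autoImplicit false

namespace Cfsg.Agent.Lib.TICen.Parity

open scoped ComplexConjugate
open Cfsg.Agent.Lib.Characters.Basic
open Cfsg.Agent.Lib.Chars82

universe u

variable {G M : Type u} [Group G] [Fintype G] [Group M] [Fintype M]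

/-- Equal indicators from an odd multiplicity. -/
theorem indicator_mul_eq_one (χ : Cfsg.IrrCharacter G) (ψ : Cfsg.IrrCharacter M) (φ : M →* G)
    (hχ : ∀ g, ((χ : G → ℂ) g).im = 0) (hψ : ∀ g, ((ψ : M → ℂ) g).im = 0) {r : ℕ}
    (hr : Cfsg.classInner (fun m => (χ : G → ℂ) (φ m)) (ψ : M → ℂ) = r) (hodd : Odd r) :
    ((Nat.card G : ℂ)⁻¹ * ∑ s : G, (χ : G → ℂ) (s * s)) *
      ((Nat.card M : ℂ)⁻¹ * ∑ s : M, (ψ : M → ℂ) (s * s)) = 1 := by
  classical
  set θ : G × M → ℂ := ((χ : G → ℂ) ∘ MonoidHom.fst G M) * ((ψ : M → ℂ) ∘ MonoidHom.snd G M) with hθ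
  have hθc : Cfsg.IsCharacter (G × M) θ :=
    isCharacter_mul (isCharacter_comp _ (isCharacter_irr χ)) (isCharacter_comp _ (isCharacter_irr ψ))
  have hθi : Cfsg.IsIrrCharacter (G × M) θ := by
    refine isIrrCharacter_of_classInner_self hθc ?_
    have h1 := classInner_self_irr χ
    have h2 := classInner_self_irr ψ
    rw [Cfsg.classInner] at h1 h2 ⊢
    have h3 := congrArg₂ (· * ·) h1 h2
    simp only [mul_one] at h3
    rw [← h3, mul_mul_mul_comm, Finset.sum_mul_sum, ← Fintype.sum_prod_type', Nat.card_prod,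
      Nat.cast_mul, mul_inv]
    congr 1
    refine Finset.sum_congr rfl fun x _ => ?_
    simp [hθ]
    ring
  let e : M →* G × M := φ.prod (MonoidHom.id M)
  have he : Function.Injective e := fun a b h => congrArg Prod.snd h
  have hreal : ∀ x, (((⟨θ, hθi⟩ : Cfsg.IrrCharacter (G × M)) : G × M → ℂ) x).im = 0 := by
    intro x
    show (θ x).im = 0
    simp [hθ, Complex.mul_im, hχ, hψ]
  have := FixedSpaceIndicator.indicator_eq_one_of_odd_fixed ⟨θ, hθi⟩ hreal e.range (r := r) ?_ hodd
  · rw [← this, mul_mul_mul_comm, Finset.sum_mul_sum, ← Fintype.sum_prod_type', Nat.card_prod,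
      Nat.cast_mul, mul_inv]
    rfl
  · rw [← hr, Cfsg.classInner, Nat.card_congr (MonoidHom.ofInjective he).toEquiv.symm]
    congr 1
    refine (Fintype.sum_equiv (MonoidHom.ofInjective he).toEquiv _ _ fun m => ?_).symm
    show _ = θ (φ m, m)
    simp [hθ, Complex.conj_eq_iff_im.2 (hψ m)]

end Cfsg.Agent.Lib.TICen.Parity
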